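import Cfsg.Agent.Lib.MatConj.DetCount

/-!
Numerical estimates for the class numbers of `SL`, `PSL` and `SU`.
-/

set_option autoImplicit false

namespace CfsgLib.MatConj

open Finset Matrix

/-- The error term. -/
noncomputable def errE (q n c : ℕ) : ℝ :=
  ∑ j ∈ Icc 2 n with j ∣ q - 1 ∧ j ∣ n, ((j : ℝ) ^ 2 - 1) * ((q : ℝ) ^ (n / j / c) - 1)

variable {q : ℕ} (hq : 2 ≤ q)
include hq

theorem errE_term_nonneg {j : ℕ} (hj : 2 ≤ j) (m : ℕ) :
    0 ≤ ((j : ℝ) ^ 2 - 1) * ((q : ℝ) ^ m - 1) := by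
  have h1 : (2 : ℝ) ≤ j := by exact_mod_cast hj
  have h2 : (1 : ℝ) ≤ q := by exact_mod_cast hq.trans' one_le_two
  exact mul_nonneg (by nlinarith) (sub_nonneg.2 (one_le_pow₀ h2))

theorem errE_nonneg (n c : ℕ) : 0 ≤ errE q n c :=
  sum_nonneg fun _ hj => errE_term_nonneg hq (mem_Icc.1 (mem_filter.1 hj).1).1 _

theorem errE_le_sum (n c : ℕ) : errE q n c ≤ ∑ j ∈ Icc 2 n,
    if j ∣ n ∧ j < q then ((j : ℝ) ^ 2 - 1) * ((q : ℝ) ^ (n / j / c) - 1) else 0 := by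
  rw [← sum_filter]
  refine sum_le_sum_of_subset_of_nonneg (fun j hj => ?_)
    fun j hj _ => errE_term_nonneg hq (mem_Icc.1 (mem_filter.1 hj).1).1 _
  obtain ⟨h1, h2, h3⟩ := mem_filter.1 hj
  have := Nat.le_of_dvd (by omega) h2
  exact mem_filter.2 ⟨h1, h3, by omega⟩

theorem errE_le_sum' (n c : ℕ) : errE q n c ≤ ∑ j ∈ Icc 2 n,
    if j ∣ n then ((j : ℝ) ^ 2 - 1) * ((q : ℝ) ^ (n / j / c) - 1) else 0 := by
  rw [← sum_filter]
  exact sum_le_sum_of_subset_of_nonneg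
    (fun j hj => mem_filter.2 ⟨(mem_filter.1 hj).1, (mem_filter.1 hj).2.2⟩)
    fun j hj _ => errE_term_nonneg hq (mem_Icc.1 (mem_filter.1 hj).1).1 _

theorem errE_le_big (n c : ℕ) : errE q n c ≤ (q : ℝ) ^ (3 + n / 2 / c) := by
  have h2 : (1 : ℝ) ≤ q := by exact_mod_cast hq.trans' one_le_two
  have h1 : ∀ j ∈ (Icc 2 n).filter fun j => j ∣ q - 1 ∧ j ∣ n, 2 ≤ j ∧ j < q := fun j hj => by
    obtain ⟨h1, h2, -⟩ := mem_filter.1 hj
    have := Nat.le_of_dvd (by omega) h2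
    exact ⟨(mem_Icc.1 h1).1, by omega⟩
  refine (sum_le_card_nsmul _ _ ((q : ℝ) ^ 2 * q ^ (n / 2 / c)) fun j hj => ?_).trans ?_
  · obtain ⟨h3, h4⟩ := h1 j hj
    have h5 : (j : ℝ) ≤ q := by exact_mod_cast h4.le
    have h6 : (q : ℝ) ^ (n / j / c) ≤ q ^ (n / 2 / c) :=
      pow_le_pow_right₀ h2 (Nat.div_le_div_right (Nat.div_le_div_left h3 two_pos))
    exact mul_le_mul (by nlinarith [Nat.cast_nonneg (α := ℝ) j]) (by linarith)
      (sub_nonneg.2 (one_le_pow₀ h2)) (by positivity)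
  · rw [nsmul_eq_mul, pow_add, pow_succ' _ 2, mul_assoc]
    refine mul_le_mul_of_nonneg_right (Nat.cast_le.2 ?_) (by positivity)
    exact (card_le_card fun j hj => mem_range.2 (h1 j hj).2).trans_eq (card_range q)

omit hq in
theorem errE_two (n c : ℕ) : errE 2 n c = 0 :=
  sum_eq_zero fun j hj => by
    obtain ⟨h1, h2, -⟩ := mem_filter.1 hj
    have := Nat.le_of_dvd (by omega) h2
    have := (mem_Icc.1 h1).1
    omega

omit hq in
theorem errE_three (n c : ℕ) : errE 3 n c ≤ 3 * (3 ^ (n / 2 / c) - 1) := by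
  refine (sum_le_sum_of_subset_of_nonneg (t := {2}) (fun j hj => ?_)
    fun j hj _ => errE_term_nonneg (by norm_num) (mem_singleton.1 hj).ge _).trans_eq (by norm_num)
  obtain ⟨h1, h2, -⟩ := mem_filter.1 hj
  have := Nat.le_of_dvd (by omega) h2
  have := (mem_Icc.1 h1).1
  exact mem_singleton.2 (by omega)

theorem errE_SL {n : ℕ} (hn : 3 ≤ n) :
    errE q n 1 ≤ 2 * q ^ (n - 1) - 3 * q ^ (n - 2) + if n = 3 then (q : ℝ) else 1 := by
  have h0 : (2 : ℝ) ≤ q := by exact_mod_cast hq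
  obtain ⟨m, rfl⟩ : ∃ m, n = m + 2 := ⟨n - 2, by omega⟩
  rw [show m + 2 - 1 = m + 1 by omega, Nat.add_sub_cancel]
  have h1 : (0 : ℝ) ≤ if m + 2 = 3 then (q : ℝ) else 1 := by split_ifs <;> positivity
  have h2 : (0 : ℝ) < q ^ m := by positivity
  rcases eq_or_lt_of_le hq with rfl | h3
  · rw [errE_two, pow_succ]
    nlinarith
  have h4 : (3 : ℝ) ≤ q := by exact_mod_cast h3
  rcases eq_or_lt_of_le (Nat.succ_le_of_lt h3) with rfl | h5
  · have h6 := errE_three (m + 2) 1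
    have h7 : (3 : ℝ) ^ ((m + 2) / 2 / 1) ≤ 3 ^ m := pow_le_pow_right₀ (by norm_num) (by omega)
    norm_num [pow_succ] at h1 h6 h7 ⊢
    linarith
  have h6 : (4 : ℝ) ≤ q := by exact_mod_cast h5
  rcases le_or_gt 5 m with h7 | h7
  · have h8 := errE_le_big hq (m + 2) 1
    have h9 : (q : ℝ) ^ (3 + (m + 2) / 2 / 1) ≤ q ^ (m + 1) :=
      pow_le_pow_right₀ (by linarith) (by omega)
    rw [pow_succ] at h9 ⊢
    nlinarith
  have h8 := errE_le_sum hq (m + 2) 1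
  have h9 := errE_le_sum' hq (m + 2) 1
  have a2 : 4 * (q : ℝ) ≤ q ^ 2 := by nlinarith
  have a3 : 4 * (q : ℝ) ^ 2 ≤ q ^ 3 := by nlinarith
  have a4 : 4 * (q : ℝ) ^ 3 ≤ q ^ 4 := by nlinarith
  have a5 : 4 * (q : ℝ) ^ 4 ≤ q ^ 5 := by nlinarith
  interval_cases m
  · omega
  · norm_num [sum_Icc_succ_top] at h9 ⊢
    nlinarith
  · norm_num [sum_Icc_succ_top] at h8 ⊢
    split_ifs at h8 with h10 h11 h11
    · have : (5 : ℝ) ≤ q := by exact_mod_cast h11
      nlinarith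
    all_goals linarith
  · norm_num [sum_Icc_succ_top] at h9 ⊢
    linarith
  · norm_num [sum_Icc_succ_top] at h9 ⊢
    linarith

theorem errE_PSL {n d : ℕ} (hn : 2 ≤ n) (hd : d + 1 ≤ n) (hd' : d + 2 ≤ q) :
    errE q n 1 + d * (q ^ (n / 2) - 1 + errE q n 2) ≤ 4 * q ^ (n - 1) - 5 * q ^ (n - 2) + 1 := by
  have h0 : (2 : ℝ) ≤ q := by exact_mod_cast hq
  obtain ⟨m, rfl⟩ : ∃ m, n = m + 2 := ⟨n - 2, by omega⟩
  rw [show m + 2 - 1 = m + 1 by omega, Nat.add_sub_cancel]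
  have h2 : (0 : ℝ) < q ^ m := by positivity
  have h1 : 0 ≤ (q : ℝ) ^ ((m + 2) / 2) - 1 + errE q (m + 2) 2 :=
    add_nonneg (sub_nonneg.2 (one_le_pow₀ (by linarith))) (errE_nonneg hq _ _)
  rcases eq_or_lt_of_le hq with rfl | h3
  · obtain rfl : d = 0 := by omega
    rw [errE_two, pow_succ, Nat.cast_zero, zero_mul]
    nlinarith
  have h4 : (3 : ℝ) ≤ q := by exact_mod_cast h3
  rcases eq_or_lt_of_le (Nat.succ_le_of_lt h3) with rfl | h5
  · have h6 := errE_three (m + 2) 1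
    have h7 := errE_three (m + 2) 2
    have h8 := mul_le_mul_of_nonneg_right (show (d : ℝ) ≤ 1 by exact_mod_cast (by omega : d ≤ 1)) h1
    rcases le_or_gt 2 m with h9 | h9
    · have h10 : (3 : ℝ) ^ ((m + 2) / 2) ≤ 3 ^ m := pow_le_pow_right₀ (by norm_num) (by omega)
      have h11 : (3 : ℝ) ^ ((m + 2) / 2 / 2) ≤ 3 ^ m := pow_le_pow_right₀ (by norm_num) (by omega)
      rw [Nat.div_one] at h6
      push_cast at h8 ⊢
      rw [pow_succ]
      linarith
    · interval_cases m <;> norm_num at h6 h7 h8 ⊢ <;> linarith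
  have h6 : (4 : ℝ) ≤ q := by exact_mod_cast h5
  rcases le_or_gt 5 m with h7 | h7
  · have h8 := errE_le_big hq (m + 2) 1
    have h9 := errE_le_big hq (m + 2) 2
    have h10 : (q : ℝ) ^ (3 + (m + 2) / 2 / 1) ≤ q ^ (m + 1) :=
      pow_le_pow_right₀ (by linarith) (by omega)
    have h11 : (q : ℝ) ^ (3 + (m + 2) / 2 / 2 + 1) ≤ q ^ (m + 1) :=
      pow_le_pow_right₀ (by linarith) (by omega)
    have h12 : (q : ℝ) ^ ((m + 2) / 2 + 1) ≤ q ^ m :=
      pow_le_pow_right₀ (by linarith) (by omega)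
    have h13 := mul_le_mul_of_nonneg_right
      (show (d : ℝ) ≤ q by exact_mod_cast (by omega : d ≤ q)) h1
    have h14 := mul_le_mul_of_nonneg_left h9 (by linarith : (0 : ℝ) ≤ q)
    rw [pow_succ' _ (3 + _)] at h11
    rw [pow_succ'] at h12
    have h15 : 4 * (q : ℝ) ^ m ≤ q ^ (m + 1) := by rw [pow_succ]; nlinarith
    linarith
  have h8 := errE_le_sum' hq (m + 2) 1
  have h9 := errE_le_sum' hq (m + 2) 2
  have h10 := mul_le_mul_of_nonneg_right
    (show (d : ℝ) ≤ m + 1 by exact_mod_cast (by omega : d ≤ m + 1)) h1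
  have a2 : 4 * (q : ℝ) ≤ q ^ 2 := by nlinarith
  have a3 : 4 * (q : ℝ) ^ 2 ≤ q ^ 3 := by nlinarith
  have a4 : 4 * (q : ℝ) ^ 3 ≤ q ^ 4 := by nlinarith
  have a5 : 4 * (q : ℝ) ^ 4 ≤ q ^ 5 := by nlinarith
  have a6 : 0 ≤ 4 * (q : ℝ) ^ 3 - 11 * q ^ 2 - 24 * q + 31 := by
    nlinarith [mul_nonneg (sub_nonneg.2 h6) (sq_nonneg (q : ℝ)), sq_nonneg ((q : ℝ) - 4)]
  interval_cases m <;> norm_num [sum_Icc_succ_top] at h8 h9 h10 ⊢ <;> linarith

omit hq in
theorem card_classes_SL_le {F : Type*} [Field F] [Fintype F] {n : ℕ} (hn : 1 ≤ n) {ζ : F}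
    {k c : ℕ} (hc : 0 < c) (hk : c ≤ k) (hζ : IsPrimitiveRoot ζ k) :
    ((Fintype.card F : ℝ) - 1) * Nat.card {C : ConjClasses (SpecialLinearGroup (Fin n) F) //
      ∃ h, ConjClasses.mk h = C ∧ IsConj (ζ • h.1) h.1} ≤
      (Fintype.card F : ℝ) ^ (n / c) - (if n = 3 ∧ k = 1 then (Fintype.card F : ℝ) else 1) +
        errE (Fintype.card F) n c := by
  have : Nonempty (Fin n) := ⟨⟨0, hn⟩⟩
  have h0 : k ≠ 0 := by omega
  have h1 : (1 : ℝ) ≤ Fintype.card F := Nat.one_le_cast.2 Fintype.card_pos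
  have h2 : ∀ K m, m ≠ 0 → PowerSeries.coeff m (PowerSeries.expand k h0
      (∏ i ∈ range K, ex i (hGL (Fintype.card F)))) ≤ (Fintype.card F : ℝ) ^ (m / c) - 1 := by
    intro K m hm
    rw [PowerSeries.coeff_expand]
    split_ifs with h
    · exact (coeff_prod_hGL_le h1 _ (Nat.div_ne_zero_iff_of_dvd h |>.2 ⟨hm, h0⟩)).trans
        (sub_le_sub_right (pow_le_pow_right₀ h1 (Nat.div_le_div_left hk hc)) _)
    · exact sub_nonneg.2 (one_le_pow₀ h1)
  refine (card_classes_SL_smul h0 hζ).trans (add_le_add ?_ ?_) <;> rw [Fintype.card_fin]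
  · split_ifs with h
    · obtain ⟨rfl, rfl⟩ := h
      obtain rfl : c = 1 := by omega
      rw [PowerSeries.expand_one_apply]
      exact coeff_prod_hGL_three h1
    · exact h2 _ _ (by omega)
  · refine sum_le_sum fun j hj => ?_
    obtain ⟨h3, -, h4⟩ := mem_filter.1 hj
    have h5 := (mem_Icc.1 h3).1
    have h6 : (2 : ℝ) ≤ j := by exact_mod_cast h5
    exact mul_le_mul_of_nonneg_left (h2 _ _ (Nat.div_ne_zero_iff_of_dvd h4 |>.2
      ⟨by omega, by omega⟩)) (by nlinarith)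

omit hq in
theorem card_classes_SL_le' {F : Type*} [Field F] [Fintype F] {n : ℕ} (hn : 1 ≤ n) :
    ((Fintype.card F : ℝ) - 1) * Nat.card (ConjClasses (SpecialLinearGroup (Fin n) F)) ≤
      (Fintype.card F : ℝ) ^ n - (if n = 3 then (Fintype.card F : ℝ) else 1) +
        errE (Fintype.card F) n 1 := by
  have h := card_classes_SL_le (F := F) hn one_pos le_rfl IsPrimitiveRoot.one
  simp only [one_smul, IsConj.refl, Nat.div_one, and_true] at h
  rw [card_conjClasses_eq]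
  simpa only [and_true] using h

omit hq in
theorem coeff_GU_le {q x K : ℝ} (hx : 0 < x) (hx1 : x < 1) (hq : 1 ≤ x * q)
    (hK : ∀ k, ∏ i ∈ range k, (1 + x ^ (i + 2)) * (1 - x ^ (i + 1))⁻¹ ≤ K) {m : ℕ} (hm : m ≠ 0) :
    PowerSeries.coeff m (∏ i ∈ range m, ex i ((1 + PowerSeries.X) * geo q)) ≤
      (1 + x) * K * q ^ m := by
  obtain ⟨k, rfl⟩ := Nat.exists_eq_succ_of_ne_zero hm
  have h0 : 0 < q := pos_of_mul_pos_left (by linarith : 0 < q * x) hx.le
  exact (bd_GU hx hx1 hq k _).trans (mul_le_mul_of_nonneg_right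
    (mul_le_mul_of_nonneg_left (hK k) (by linarith)) (by positivity))

theorem card_classes_SU_le {K : Type*} [Field K] [Fintype K] {n : ℕ} (hK : Fintype.card K = q ^ 2)
    (hn : 2 ≤ n) : 100 * Nat.card (ConjClasses (Cfsg.SU n K q)) ≤ 826 * q ^ (n - 1) := by
  have h0 : (2 : ℝ) ≤ q := by exact_mod_cast hq
  have h1 := card_classes_SU hK (one_le_two.trans hn)
  obtain ⟨m, rfl⟩ : ∃ m, n = m + 1 := ⟨n - 1, by omega⟩
  rw [Nat.add_sub_cancel]
  suffices h : ((q : ℝ) + 1) * Nat.card (ConjClasses (Cfsg.SU (m + 1) K q)) ≤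
      826 / 100 * q ^ (m + 1) + 826 / 100 * q ^ m by
    have h2 : (100 : ℝ) * Nat.card (ConjClasses (Cfsg.SU (m + 1) K q)) ≤ 826 * q ^ m :=
      le_of_mul_le_mul_left (a := (q : ℝ) + 1) (by rw [pow_succ] at h; linarith) (by linarith)
    exact_mod_cast h2
  refine h1.trans ?_
  have h3 : ∀ j ∈ (Icc 2 (m + 1)).filter fun j => j ∣ q + 1 ∧ j ∣ m + 1,
      2 ≤ j ∧ j ≤ q + 1 ∧ (m + 1) / j ≠ 0 ∧ 0 ≤ (j : ℝ) ^ 2 - 1 := fun j hj => by
    obtain ⟨h1, h2, h3⟩ := mem_filter.1 hj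
    have h4 := (mem_Icc.1 h1).1
    have h5 : (2 : ℝ) ≤ j := by exact_mod_cast h4
    exact ⟨h4, Nat.le_of_dvd (by omega) h2,
      (Nat.div_ne_zero_iff_of_dvd h3).2 ⟨by omega, by omega⟩, by nlinarith⟩
  rcases eq_or_lt_of_le hq with rfl | h4
  · have h5 := fun m => coeff_GU_le (q := (2 : ℕ)) (by norm_num : (0 : ℝ) < 1 / 2) (by norm_num)
      (by norm_num) prod_GU_two (m := m)
    refine add_le_add ((h5 _ (by omega)).trans_eq (by norm_num)) ?_
    by_cases h6 : 3 ∣ m + 1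
    · rw [show ((Icc 2 (m + 1)).filter fun j => j ∣ 2 + 1 ∧ j ∣ m + 1) = {3} from
        eq_singleton_iff_unique_mem.2 ⟨mem_filter.2 ⟨mem_Icc.2 ⟨by omega, by omega⟩, by omega⟩,
          fun j hj => by
            have := h3 j hj
            have := (mem_filter.1 hj).2.1
            obtain rfl | rfl : j = 2 ∨ j = 3 := by omega
            exacts [by omega, rfl]⟩, sum_singleton]
      rcases eq_or_ne m 2 with rfl | h7
      · norm_num [ex, PowerSeries.expand_one_apply, add_mul, coeff_geo, PowerSeries.coeff_succ_X_mul]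
      · have h8 := h5 ((m + 1) / 3) (by omega)
        have h9 : (2 : ℝ) ^ ((m + 1) / 3 + 3) ≤ 2 ^ m := pow_le_pow_right₀ one_le_two (by omega)
        rw [pow_add] at h9
        norm_num at h8 h9 ⊢
        linarith
    · refine (sum_eq_zero fun j hj => ?_).trans_le (by positivity)
      have := h3 j hj
      obtain ⟨-, h7, h8⟩ := mem_filter.1 hj
      obtain rfl | rfl : j = 2 ∨ j = 3 := by omega
      exacts [by omega, absurd h8 h6]
  have h5 : (3 : ℝ) ≤ q := by exact_mod_cast h4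
  have h6 := fun m => coeff_GU_le (q := q) (by norm_num : (0 : ℝ) < 1 / 3) (by norm_num)
      (by linarith) prod_GU_three (m := m)
  have h7 := h6 (m + 1) (by omega)
  have h8 : (0 : ℝ) < q ^ m := by positivity
  suffices h : (∑ j ∈ Icc 2 (m + 1) with j ∣ q + 1 ∧ j ∣ m + 1,
      ((j : ℝ) ^ 2 - 1) * (q : ℝ) ^ ((m + 1) / j)) ≤ 5 / 3 * (q : ℝ) ^ (m + 1) by
    have h9 := sum_le_sum fun j hj => mul_le_mul_of_nonneg_left (h6 _ (h3 j hj).2.2.1)
      (h3 j hj).2.2.2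
    simp only [mul_left_comm _ ((1 + 1 / 3) * (9 / 4) : ℝ), ← mul_sum] at h9
    have : (0 : ℝ) < q ^ (m + 1) := by positivity
    linarith
  rcases le_or_gt 4 m with h9 | h9
  · refine (sum_le_card_nsmul _ _ (5 / 3 * (q : ℝ) ^ 2 * q ^ ((m + 1) / 2)) fun j hj => ?_).trans ?_
    · obtain ⟨h10, h11, -, h12⟩ := h3 j hj
      have h13 : (j : ℝ) ≤ q + 1 := by exact_mod_cast h11
      exact mul_le_mul (by nlinarith [Nat.cast_nonneg (α := ℝ) j]) (pow_le_pow_right₀ (by linarith)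
        (Nat.div_le_div_left h10 two_pos)) (by positivity) (by positivity)
    · have h10 : (((Icc 2 (m + 1)).filter fun j => j ∣ q + 1 ∧ j ∣ m + 1).card : ℝ) ≤ q :=
        Nat.cast_le.2 ((card_le_card (t := Icc 2 (q + 1)) fun j hj =>
          mem_Icc.2 ⟨(h3 j hj).1, (h3 j hj).2.1⟩).trans_eq (by simp))
      have h11 : (q : ℝ) ^ (3 + (m + 1) / 2) ≤ q ^ (m + 1) :=
        pow_le_pow_right₀ (by linarith) (by omega)
      rw [nsmul_eq_mul]
      refine (mul_le_mul_of_nonneg_right h10 (by positivity)).trans ?_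
      rw [pow_add] at h11
      linarith
  refine (sum_le_sum_of_subset_of_nonneg (t := (Icc 2 (m + 1)).filter (· ∣ m + 1))
    (fun j hj => mem_filter.2 ⟨(mem_filter.1 hj).1, (mem_filter.1 hj).2.2⟩) fun j hj _ => ?_).trans ?_
  · have h10 : (2 : ℝ) ≤ j := by exact_mod_cast (mem_Icc.1 (mem_filter.1 hj).1).1
    exact mul_nonneg (by nlinarith) (by positivity)
  have a2 : 3 * (q : ℝ) ≤ q ^ 2 := by nlinarith
  have a3 : 3 * (q : ℝ) ^ 2 ≤ q ^ 3 := by nlinarith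
  have a4 : 3 * (q : ℝ) ^ 3 ≤ q ^ 4 := by nlinarith
  rw [sum_filter]
  interval_cases m
  · omega
  all_goals
    norm_num [sum_Icc_succ_top]
    linarith

end CfsgLib.MatConj
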