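import Cfsg.Agent.Lib.MatConj.PolyData
import Cfsg.Agent.Lib.Unitary.Order

/-!
Bounding the number of conjugacy classes in the determinant one subgroup.
-/

set_option autoImplicit false

namespace CfsgLib.MatConj

open Polynomial Module Matrix Finset

variable {F : Type*} [Field F] {K : ℕ}

/-- The support of a family of polynomials. -/
noncomputable def suppD (x : Fin K → F[X]) : Finset (Fin K) := univ.filter fun i => 0 < (x i).natDegree

/-- The product of the constant terms. -/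
noncomputable def detD (x : Fin K → F[X]) : F := ∏ i, (x i).coeff 0 ^ (i.1 + 1)

/-- The subgroup generated by the `(i + 1)`-th powers, `i ∈ T`. -/
def powH (Γ : Type*) [CommGroup Γ] (T : Finset (Fin K)) : Subgroup Γ :=
  (∏ i ∈ T, (powMonoidHom (i.1 + 1)).comp (Pi.evalMonoidHom (fun _ : Fin K => Γ) i)).range

theorem mem_powH {Γ : Type*} [CommGroup Γ] {T : Finset (Fin K)} {μ : Γ} :
    μ ∈ powH Γ T ↔ ∃ c : Fin K → Γ, ∏ i ∈ T, c i ^ (i.1 + 1) = μ := by
  simp [powH, MonoidHom.finsetProd_apply]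

theorem index_powH_dvd {Γ : Type*} [CommGroup Γ] [IsCyclic Γ] {T : Finset (Fin K)}
    {i : Fin K} (hi : i ∈ T) : (powH Γ T).index ∣ i.1 + 1 := by
  have : IsCyclic (Γ ⧸ powH Γ T) := isCyclic_of_surjective _ (QuotientGroup.mk'_surjective _)
  rw [Subgroup.index, ← IsCyclic.exponent_eq_card]
  refine Monoid.exponent_dvd_of_forall_pow_eq_one fun g => ?_
  obtain ⟨g, rfl⟩ := QuotientGroup.mk_surjective g
  rw [← QuotientGroup.mk_pow, QuotientGroup.eq_one_iff, mem_powH]
  refine ⟨Pi.mulSingle i g, ?_⟩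
  rw [prod_eq_single_of_mem i hi fun j _ hj => by simp [hj]]
  simp

open Classical in
theorem det_count (Γ : Subgroup Fˣ) [Finite Γ] (S : Finset F[X])
    (hφ : ∀ μ : Γ, ∃ φ : F[X] → F[X], Set.InjOn φ S ∧ ∀ f ∈ S, φ f ∈ S ∧
      (φ f).natDegree = f.natDegree ∧ (φ f).coeff 0 =
        (if 0 < f.natDegree then (μ.1 : F) else 1) * f.coeff 0) (N : ℕ) {δ : F} (hδ : δ ≠ 0) :
    Nat.card Γ * ∑ x ∈ famD K (fun _ => S) N with detD x = δ, (powH Γ (suppD x)).index ≤
      ∑ x ∈ famD K (fun _ => S) N, (powH Γ (suppD x)).index ^ 2 := by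
  have := Fintype.ofFinite Γ
  choose φ hφ1 hφ2 using hφ
  have hc := fun (T : Finset (Fin K)) (μ : Γ) (h : μ ∈ powH Γ T) => mem_powH.1 h
  choose! c hc using hc
  let T := ((famD K (fun _ => S) N).filter fun x => detD x = δ).sigma
    fun x => univ.filter (· ∈ powH Γ (suppD x))
  let ψ : (Σ _ : Fin K → F[X], Γ) → Fin K → F[X] := fun y i => φ (c (suppD y.1) y.2 i) (y.1 i)
  have h1 : ∀ y ∈ T, (∀ i, y.1 i ∈ S) ∧ wtD y.1 = N ∧ detD y.1 = δ ∧
      y.2 ∈ powH Γ (suppD y.1) := fun y hy => by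
    simpa [T, mem_famD, and_assoc] using hy
  have h2 : ∀ y ∈ T, suppD (ψ y) = suppD y.1 := fun y hy =>
    filter_congr fun i _ => by rw [(hφ2 _ _ ((h1 y hy).1 i)).2.1]
  have h3 : ∀ y ∈ T, detD (ψ y) = y.2.1 * δ := fun y hy => by
    obtain ⟨h4, -, h5, h6⟩ := h1 y hy
    rw [← h5, ← hc _ _ h6, detD, prod_congr rfl fun i _ => by rw [(hφ2 _ _ (h4 i)).2.2, mul_pow],
      prod_mul_distrib, suppD, prod_filter]
    congr 1
    push_cast
    exact prod_congr rfl fun i _ => by split_ifs <;> simp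
  have h4 : Set.InjOn ψ T := by
    rintro ⟨x, μ⟩ hy ⟨x', μ'⟩ hy' h
    obtain rfl : μ = μ' := Subtype.ext (Units.ext (mul_right_cancel₀ hδ
      ((h3 _ hy).symm.trans (h ▸ h3 _ hy'))))
    have h5 : suppD x = suppD x' := (h2 _ hy).symm.trans (h ▸ h2 _ hy')
    obtain rfl : x = x' := funext fun i => hφ1 (c (suppD x) μ i) ((h1 _ hy).1 i) ((h1 _ hy').1 i)
      (by simpa only [ψ, h5] using congrFun h i)
    rfl
  calc _ = ∑ y ∈ T, (powH Γ (suppD (ψ y))).index ^ 2 := by
        rw [sum_congr rfl (s₁ := T) (g := fun y => (powH Γ (suppD y.1)).index ^ 2)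
          fun y hy => by rw [h2 y hy], sum_sigma, mul_sum]
        refine sum_congr rfl fun x _ => ?_
        simp only [sum_const, smul_eq_mul]
        rw [← (powH Γ (suppD x)).card_mul_index, sq, mul_assoc, Nat.card_eq_fintype_card,
          Fintype.card_subtype]
    _ = ∑ x ∈ T.image ψ, (powH Γ (suppD x)).index ^ 2 := (sum_image (f := fun x => (powH Γ (suppD x)).index ^ 2) h4).symm
    _ ≤ _ := sum_le_sum_of_subset fun x hx => by
        obtain ⟨y, hy, rfl⟩ := mem_image.1 hx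
        obtain ⟨h5, h6, -⟩ := h1 y hy
        exact mem_famD.2 ⟨fun i => (hφ2 _ _ (h5 i)).1, h6 ▸ sum_congr rfl fun i _ => by
          rw [(hφ2 _ _ (h5 i)).2.1]⟩

theorem prod_ex_ite {j : ℕ} (hj : j ≠ 0) (G : PowerSeries ℝ) (K : ℕ) :
    ∏ i ∈ range K, ex i (if j ∣ i + 1 then G else 1) =
      PowerSeries.expand j hj (∏ i ∈ range (K / j), ex i G) := by
  induction K with
  | zero => simp
  | succ K ih =>
    rw [prod_range_succ, ih, Nat.succ_div]
    split_ifs with h
    · have h1 : ∀ (a b : ℕ) (ha : a ≠ 0) (hb : b ≠ 0), a = b →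
          PowerSeries.expand a ha G = PowerSeries.expand b hb G := by
        rintro a _ _ _ rfl; rfl
      rw [prod_range_succ, map_mul, ← PowerSeries.expand_mul, h1 (K + 1)]
      rw [← Nat.succ_div_of_dvd h, Nat.mul_div_cancel' h]
    · simp

theorem sum_index_sq_le (Γ : Type*) [CommGroup Γ] [IsCyclic Γ] [Finite Γ] (S : Finset F[X])
    (hS : ∀ f ∈ S, f.Monic) {G : PowerSeries ℝ} (hG : CLe (gfS S 1) G) {N : ℕ} (hN : 0 < N) :
    ((∑ x ∈ famD N (fun _ => S) N, (powH Γ (suppD x)).index ^ 2 : ℕ) : ℝ) ≤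
      PowerSeries.coeff N (∏ i ∈ range N, ex i G) +
      ∑ j ∈ Icc 2 N with j ∣ Nat.card Γ ∧ j ∣ N,
        (j ^ 2 - 1) * PowerSeries.coeff (N / j) (∏ i ∈ range (N / j), ex i G) := by
  classical
  let S' : ℕ → ℕ → Finset F[X] := fun j i => if j ∣ i + 1 then S else {1}
  have h1 : ∀ j ∈ (Icc 2 N).filter fun j => j ∣ Nat.card Γ ∧ j ∣ N,
      (((j : ℝ) ^ 2 - 1) * (famD N (S' j) N).card) ≤
      (j ^ 2 - 1) * PowerSeries.coeff (N / j) (∏ i ∈ range (N / j), ex i G) := by
    intro j hj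
    obtain ⟨h1, -, h2⟩ := mem_filter.1 hj
    have h3 : (2 : ℝ) ≤ j := by exact_mod_cast (mem_Icc.1 h1).1
    have h4 : j ≠ 0 := by have := (mem_Icc.1 h1).1; omega
    refine mul_le_mul_of_nonneg_left ((card_famD_le N (S' j)
      (G := fun i => if j ∣ i + 1 then G else 1) (fun i => ?_) N).trans_eq ?_) (by nlinarith)
    · simp only [S']
      split_ifs
      · exact hG
      · simp [gfS, CLe.refl]
    · rw [prod_ex_ite h4, PowerSeries.coeff_expand, if_pos h2]
  refine le_trans ?_ (add_le_add (card_famD_le N _ (fun _ => hG) N) (sum_le_sum h1))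
  have h2 : ∀ j, ((famD N (S' j) N).card : ℝ) ≥
      ∑ x ∈ famD N (fun _ => S) N, if (powH Γ (suppD x)).index = j then 1 else 0 := by
    intro j
    rw [sum_boole, ge_iff_le, Nat.cast_le]
    refine card_le_card fun x hx => ?_
    obtain ⟨h2, rfl⟩ := mem_filter.1 hx
    obtain ⟨h3, h4⟩ := mem_famD.1 h2
    refine mem_famD.2 ⟨fun i => ?_, h4⟩
    simp only [S']
    split_ifs with h
    · exact h3 i
    · rw [mem_singleton, ← (hS _ (h3 i)).natDegree_eq_zero]
      by_contra h5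
      exact h (index_powH_dvd (mem_filter.2 ⟨mem_univ _, Nat.pos_of_ne_zero h5⟩))
  refine le_trans ?_ (add_le_add le_rfl (sum_le_sum fun j hj =>
    mul_le_mul_of_nonneg_left (h2 j) ?_))
  · simp only [mul_sum]
    rw [sum_comm, card_eq_sum_ones, Nat.cast_sum, Nat.cast_sum, ← sum_add_distrib]
    refine sum_le_sum fun x hx => ?_
    simp only [mul_ite, mul_one, mul_zero, sum_ite_eq]
    split_ifs with h
    · push_cast
      linarith
    · have h3 : (powH Γ (suppD x)).index ∣ N := by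
        refine (dvd_sum fun i _ => ?_).trans (mem_famD.1 hx).2.dvd
        rcases Nat.eq_zero_or_pos (x i).natDegree with h4 | h4
        · simp [h4]
        · exact (index_powH_dvd (mem_filter.2 ⟨mem_univ _, h4⟩)).mul_right _
      have h4 : (powH Γ (suppD x)).index ≤ 1 := by
        by_contra h4
        exact h (mem_filter.2 ⟨mem_Icc.2 ⟨by omega, Nat.le_of_dvd hN h3⟩,
          Subgroup.index_dvd_card _, h3⟩)
      rw [add_zero, Nat.cast_le]
      exact pow_le_one' h4 _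
  · have h3 : (2 : ℝ) ≤ j := by exact_mod_cast (mem_Icc.1 (mem_filter.1 hj).1).1
    nlinarith

variable {n : Type*} [Fintype n] [DecidableEq n]

theorem card_classes_det [Finite F] [Nonempty n] {G H : Type*} [Group G] [Group H] [Finite H]
    (φ : H →* G) (hφ : Function.Injective φ) (ι : G →* Matrix n n F) (Γ : Subgroup Fˣ)
    (δ : G →* Γ) (hδ : Function.Surjective δ) (hδι : ∀ g, ((δ g).1 : F) = (ι g).det)
    (hker : ∀ g, δ g = 1 ↔ ∃ h, φ h = g) (hconj : ∀ g g', IsConj (ι g) (ι g') → IsConj g g')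
    (hcent : ∀ g, ∀ x ∈ edM (ι g), ∀ ν : Γ, ∃ c : G, Commute c g ∧ δ c = ν ^ x.2)
    (P : H → Prop) (Q : F[X] → Prop)
    (hPQ : ∀ h, P h → ∀ i, Q (matD (Fintype.card n) (ι (φ h)) i))
    (hQ : ∀ μ : Γ, ∃ ψ : F[X] → F[X], Function.Injective ψ ∧ ∀ f, f.Monic → Q f →
      (ψ f).Monic ∧ Q (ψ f) ∧ (ψ f).natDegree = f.natDegree ∧ (ψ f).coeff 0 =
        (if 0 < f.natDegree then (μ.1 : F) else 1) * f.coeff 0)
    {Gf : PowerSeries ℝ} (hG : CLe (gfS (monS Q (Fintype.card n)) 1) Gf) :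
    (Nat.card Γ : ℝ) * Nat.card {C : ConjClasses H // ∃ h, ConjClasses.mk h = C ∧ P h} ≤
      PowerSeries.coeff (Fintype.card n) (∏ i ∈ range (Fintype.card n), ex i Gf) +
      ∑ j ∈ Icc 2 (Fintype.card n) with j ∣ Nat.card Γ ∧ j ∣ Fintype.card n,
        (j ^ 2 - 1) * PowerSeries.coeff (Fintype.card n / j)
          (∏ i ∈ range (Fintype.card n / j), ex i Gf) := by
  classical
  refine le_trans ?_ (sum_index_sq_le Γ _ (fun f hf => (mem_monS.1 hf).2.1) hG Fintype.card_pos)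
  refine le_trans ?_ (Nat.cast_le.2 (det_count Γ _ (fun μ => ?_) (Fintype.card n)
    (δ := (-1) ^ Fintype.card n) (pow_ne_zero _ (neg_ne_zero.2 one_ne_zero))))
  · rw [Nat.cast_mul, Nat.cast_sum]
    refine mul_le_mul_of_nonneg_left (card_classes_le_sum P
      (fun h => matD (Fintype.card n) (ι (φ h))) _ (fun h hh => mem_filter.2
        ⟨matD_mem_famD (P := fun _ => Q) le_rfl (hPQ h hh), ?_⟩) _ fun b _ => ?_) (Nat.cast_nonneg _)
    · have h1 := det_eq_prod_matD le_rfl (ι (φ h))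
      rw [← hδι, (hker _).2 ⟨h, rfl⟩] at h1
      have h2 := congrArg ((-1) ^ Fintype.card n * ·) h1
      simpa [← mul_assoc, ← mul_pow, detD] using h2.symm
    rw [Nat.cast_le]
    rcases isEmpty_or_nonempty {C : ConjClasses H // ∃ g, ConjClasses.mk g = C ∧ P g ∧
      matD (Fintype.card n) (ι (φ g)) = b} with h | ⟨⟨-, h, -, -, rfl⟩⟩
    · simp
    refine (Nat.card_le_card_of_injective (β := {C : ConjClasses H //
      ∃ u, ConjClasses.mk u = C ∧ IsConj (φ h) (φ u)}) (fun C => ⟨C.1, ?_⟩)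
      fun _ _ h => Subtype.ext (by simpa using h)).trans ?_
    · obtain ⟨u, h1, -, h2⟩ := C.2
      exact ⟨u, h1, hconj _ _ ((matD_eq_iff le_rfl).1 h2.symm)⟩
    rw [card_classes_split φ hφ δ hδ hker h]
    refine Subgroup.index_antitone fun μ hμ => ?_
    obtain ⟨c, rfl⟩ := mem_powH.1 hμ
    refine prod_mem fun i hi => ?_
    obtain ⟨x, hx, h1⟩ := (natDegree_toData_pos_iff (edM_valid _) _).1 (mem_filter.1 hi).2
    obtain ⟨g, h2, h3⟩ := hcent _ x hx (c i)
    exact ⟨g, Subgroup.mem_centralizer_singleton_iff.2 h2, h1 ▸ h3⟩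
  · obtain ⟨ψ, h1, h2⟩ := hQ μ
    refine ⟨ψ, h1.injOn, fun f hf => ?_⟩
    obtain ⟨h3, h4, h5⟩ := mem_monS.1 hf
    obtain ⟨h6, h7, h8, h9⟩ := h2 f h4 h5
    exact ⟨mem_monS.2 ⟨h8 ▸ h3, h6, h7⟩, h8, h9⟩

theorem card_monic_le_hGL [Finite F] (m : ℕ) :
    (Nat.card {f : F[X] // f.Monic ∧ f.natDegree = m ∧ f.coeff 0 ≠ 0} : ℝ) ≤
      PowerSeries.coeff m (hGL (Nat.card F)) := by
  classical
  rw [hGL, PowerSeries.coeff_mk]
  rcases m with _ | m
  · rw [if_pos rfl]
    exact_mod_cast card_monic_zero_le _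
  · have := Fintype.ofFinite F
    rw [card_monic_coeff_zero m (· ≠ 0), Nat.card_eq_fintype_card, Fintype.card_subtype_compl,
      Fintype.card_subtype_eq, ← Nat.card_eq_fintype_card, Nat.cast_mul,
      Nat.cast_sub Nat.card_pos]
    simp [pow_succ', sub_mul]

/-- Rescaling the constant term and the middle coefficients. -/
theorem exists_rescale {a b : F} (ha : a ≠ 0) (hb : b ≠ 0) : ∃ ψ : F[X] → F[X],
    Function.Injective ψ ∧ ∀ f : F[X], (ψ f).natDegree = f.natDegree ∧ ∀ i, (ψ f).coeff i =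
      (if i = f.natDegree then 1 else if i = 0 then a else b) * f.coeff i := by
  let ψ : F[X] → F[X] := fun f => ∑ i ∈ range (f.natDegree + 1),
    monomial i ((if i = f.natDegree then 1 else if i = 0 then a else b) * f.coeff i)
  have h1 : ∀ f i, (ψ f).coeff i =
      (if i = f.natDegree then 1 else if i = 0 then a else b) * f.coeff i := fun f i => by
    simp only [ψ, finsetSum_coeff, coeff_monomial, sum_ite_eq', mem_range]
    rw [ite_eq_left_iff]
    intro h
    rw [coeff_eq_zero_of_natDegree_lt (by omega), mul_zero]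
  have h2 : ∀ (f : F[X]) i, (if i = f.natDegree then 1 else if i = 0 then a else b) ≠ 0 :=
    fun f i => by split_ifs; exacts [one_ne_zero, ha, hb]
  have h3 : ∀ f, (ψ f).natDegree = f.natDegree := fun f => by
    refine natDegree_eq_of_degree_eq (congrArg Finset.max (Finset.ext fun i => ?_))
    rw [Polynomial.mem_support_iff, Polynomial.mem_support_iff, h1, mul_ne_zero_iff_left (h2 f i)]
  refine ⟨ψ, fun f g h => Polynomial.ext fun i => mul_left_cancel₀ (h2 f i) ?_,
    fun f => ⟨h3 f, h1 f⟩⟩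
  rw [← h1, h, h1, ← h3 f, h, h3]

theorem coeff_eq_zero_of_scaleRoots {ζ : F} {j : ℕ} (hζ : IsPrimitiveRoot ζ j) {f : F[X]}
    (h : f.scaleRoots ζ = f) {i : ℕ} (hi : ¬ j ∣ f.natDegree - i) : f.coeff i = 0 := by
  have h1 := congrArg (coeff · i) h
  simp only [coeff_scaleRoots] at h1
  by_contra h2
  exact hi ((hζ.pow_eq_one_iff_dvd _).1 ((mul_eq_left₀ h2).1 h1))

theorem gfS_scale_le [Finite F] {ζ : F} {j : ℕ} (hj : j ≠ 0) (hζ : IsPrimitiveRoot ζ j) (N : ℕ) :
    CLe (gfS (monS (fun f : F[X] => f.coeff 0 ≠ 0 ∧ f.scaleRoots ζ = f) N) 1)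
      (PowerSeries.expand j hj (hGL (Nat.card F))) := fun m => by
  refine (coeff_gfS_monS_le _ N m).trans ?_
  rw [PowerSeries.coeff_expand]
  split_ifs with h
  · obtain ⟨k, rfl⟩ := h
    rw [Nat.mul_div_cancel_left _ (Nat.pos_of_ne_zero hj)]
    have h1 : ∀ f : F[X], f.natDegree = j * k → f.scaleRoots ζ = f →
        expand F j (contract j f) = f := fun f h2 h3 => by
      ext i
      rw [coeff_expand (Nat.pos_of_ne_zero hj)]
      split_ifs with h4
      · rw [coeff_contract hj, Nat.div_mul_cancel h4]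
      · rcases le_or_gt i (j * k) with h5 | h5
        · exact (coeff_eq_zero_of_scaleRoots hζ h3 fun h6 =>
            h4 ((Nat.dvd_sub_iff_right h5 (dvd_mul_right j k)).1 (h2 ▸ h6))).symm
        · exact (coeff_eq_zero_of_natDegree_lt (h2 ▸ h5)).symm
    have := finite_monic (fun f : F[X] => f.coeff 0 ≠ 0) k
    refine le_trans (Nat.cast_le.2 (Nat.card_le_card_of_injective
      (β := {f : F[X] // f.Monic ∧ f.natDegree = k ∧ f.coeff 0 ≠ 0})
      (fun f => ⟨contract j f.1, ?_⟩) fun f g h => Subtype.ext ?_)) (card_monic_le_hGL k)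
    · obtain ⟨f, h2, h3, h4, h5⟩ := f
      have h6 := h1 f h3 h5
      refine ⟨(monic_expand_iff (Nat.pos_of_ne_zero hj)).1 (h6.symm ▸ h2),
        Nat.eq_of_mul_eq_mul_right (Nat.pos_of_ne_zero hj) ?_, by rwa [coeff_contract hj, zero_mul]⟩
      rw [← natDegree_expand, h6, h3, mul_comm]
    · rw [← h1 f.1 f.2.2.1 f.2.2.2.2, ← h1 g.1 g.2.2.1 g.2.2.2.2, Subtype.mk.inj h]
  · rw [Nat.card_eq_zero.2 (Or.inl ⟨fun f => f.2.2.2.1 (coeff_eq_zero_of_scaleRoots hζ f.2.2.2.2
      (by rwa [f.2.2.1]))⟩), Nat.cast_zero]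

/-- Classes of `SL` whose `GL`-class is invariant under multiplication by `ζ`. -/
theorem card_classes_SL_smul [Fintype F] [Nonempty n] {ζ : F} {k : ℕ} (hk : k ≠ 0)
    (hζ : IsPrimitiveRoot ζ k) :
    ((Fintype.card F : ℝ) - 1) * Nat.card {C : ConjClasses (SpecialLinearGroup n F) //
      ∃ h, ConjClasses.mk h = C ∧ IsConj (ζ • h.1) h.1} ≤
      PowerSeries.coeff (Fintype.card n) (PowerSeries.expand k hk
        (∏ i ∈ range (Fintype.card n), ex i (hGL (Fintype.card F)))) +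
      ∑ j ∈ Icc 2 (Fintype.card n) with j ∣ Fintype.card F - 1 ∧ j ∣ Fintype.card n,
        (j ^ 2 - 1) * PowerSeries.coeff (Fintype.card n / j) (PowerSeries.expand k hk
          (∏ i ∈ range (Fintype.card n / j), ex i (hGL (Fintype.card F)))) := by
  have h0 := hζ.ne_zero hk
  have h1 : ∀ d : Fˣ, ∃ g : GL n F, GeneralLinearGroup.det g = d :=
    GeneralLinearGroup.det_surjective
  have h2 := card_classes_det (G := GL n F) SpecialLinearGroup.toGL
    SpecialLinearGroup.toGL_injective (Units.coeHom _) ⊤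
    (GeneralLinearGroup.det.codRestrict ⊤ fun _ => Subgroup.mem_top _)
    (fun d => (h1 d.1).imp fun _ => Subtype.ext) (fun _ => rfl)
    (fun g => ⟨fun h => ⟨⟨g, congrArg (fun x : (⊤ : Subgroup Fˣ) => (x.1 : F)) h⟩, Units.ext rfl⟩,
      by rintro ⟨h, rfl⟩; exact Subtype.ext (Units.ext h.2)⟩)
    (fun g g' h => (isConj_units_iff _ _).2 h) (fun g x hx ν => by
      obtain ⟨c, h3, h4⟩ := exists_commute_det_pow_edM _ hx (ν.1 : F)
      obtain ⟨c, rfl⟩ := (isUnit_iff_isUnit_det c).2 (h4 ▸ ν.1.isUnit.pow _)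
      exact ⟨c, Units.ext h3, Subtype.ext (Units.ext h4)⟩)
    (fun h => IsConj (ζ • h.1) h.1) (fun f => f.coeff 0 ≠ 0 ∧ f.scaleRoots ζ = f)
    (fun h hh i => ⟨matD_coeff_zero_ne_zero _ (Units.isUnit _) i, (matD_smul _ _ h0 i).symm.trans
      (congrFun ((matD_eq_iff le_rfl).2 hh) i)⟩) (fun μ => by
      obtain ⟨ψ, h3, h4⟩ := exists_rescale μ.1.ne_zero (one_ne_zero (α := F))
      refine ⟨ψ, h3, fun f h5 ⟨h6, h7⟩ => ?_⟩
      obtain ⟨h8, h9⟩ := h4 f
      refine ⟨by rw [Monic, leadingCoeff, h8, h9, if_pos rfl, one_mul]; exact h5, ⟨?_, ?_⟩, h8, ?_⟩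
      · rw [h9]
        split_ifs <;> simp [h6]
      · ext i
        rw [coeff_scaleRoots, h8, h9, mul_assoc, ← coeff_scaleRoots, h7]
      · rw [h9]
        by_cases h10 : f.natDegree = 0 <;> simp [h10, eq_comm (a := 0), Nat.pos_iff_ne_zero])
    (gfS_scale_le hk hζ _)
  simp only [← expand_comm k, ← map_prod] at h2
  rwa [Subgroup.card_top, Nat.card_units, Nat.cast_sub Nat.card_pos, Nat.cast_one,
    Nat.card_eq_fintype_card (α := F)] at h2

section Unitary

variable {K : Type*} [Field K] [StarRing K] [Finite K] (hK : ∃ z : K, star z ≠ z)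
include hK

theorem exists_rescale_tilde {μ : K} (hμ : μ * star μ = 1) : ∃ ψ : K[X] → K[X],
    Function.Injective ψ ∧ ∀ f, f.Monic → f.coeff 0 ≠ 0 ∧ tilde (starRingEnd K) f = f →
      (ψ f).Monic ∧ ((ψ f).coeff 0 ≠ 0 ∧ tilde (starRingEnd K) (ψ f) = ψ f) ∧
      (ψ f).natDegree = f.natDegree ∧
      (ψ f).coeff 0 = (if 0 < f.natDegree then μ else 1) * f.coeff 0 := by
  obtain ⟨ω, h1, h2⟩ := exists_omega hK
  obtain ⟨c, hc, hc'⟩ := comm_hilbert90 (starRingEnd K) star_star h1 h2.isUnit hμ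
  have h0 := left_ne_zero_of_mul_eq_one hμ
  have hc2 : star c = star μ * c := by
    simpa [starRingEnd_apply] using (congrArg star hc').symm
  obtain ⟨ψ, h3, h4⟩ := exists_rescale h0 hc.ne_zero
  refine ⟨ψ, h3, fun f h5 ⟨h6, h7⟩ => ?_⟩
  obtain ⟨h8, h9⟩ := h4 f
  have h10 : (ψ f).coeff 0 = (if 0 < f.natDegree then μ else 1) * f.coeff 0 := by
    rw [h9]
    by_cases h10 : f.natDegree = 0 <;> simp [h10, eq_comm (a := 0), Nat.pos_iff_ne_zero]
  have h11 : (ψ f).coeff 0 ≠ 0 := by rw [h10]; split_ifs <;> simp [h6, h0]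
  refine ⟨by rw [Monic, leadingCoeff, h8, h9, if_pos rfl, one_mul]; exact h5, ⟨h11, ?_⟩, h8, h10⟩
  rw [tilde_eq_self_iff_coeff h6] at h7
  rw [tilde_eq_self_iff_coeff h11, h8]
  intro i hi
  have h12 := h7 i hi
  rw [h10, h9, h9, map_mul, map_mul, h12]
  by_cases h13 : f.natDegree = 0
  · obtain rfl : i = 0 := by omega
    simp [h13]
  rw [if_pos (Nat.pos_of_ne_zero h13)]
  by_cases h14 : i = 0
  · subst h14
    rw [if_pos (Nat.sub_zero _), if_neg (Ne.symm h13), if_pos rfl, starRingEnd_apply (x := μ)]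
    linear_combination (map_one (starRingEnd K) - hμ) * (starRingEnd K (f.coeff 0) * f.coeff 0)
  by_cases h15 : i = f.natDegree
  · rw [if_neg (by omega), if_pos (by omega), if_pos h15]
    ring
  · rw [if_neg (by omega), if_neg (by omega), if_neg h15, if_neg h14, starRingEnd_apply (x := μ),
      starRingEnd_apply (x := c), hc2]
    ring

theorem gfS_tilde_le {q : ℕ} (hq : Nat.card K = q ^ 2)
    (hq' : Nat.card {c : K // c * star c = 1} = q + 1) (N : ℕ) :
    CLe (gfS (monS (fun f : K[X] => f.coeff 0 ≠ 0 ∧ tilde (starRingEnd K) f = f) N) 1)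
      ((1 + PowerSeries.X) * geo q) := fun m => by
  classical
  refine (coeff_gfS_monS_le _ N m).trans ?_
  rcases m with _ | m
  · simpa [geo] using card_monic_zero_le _
  have := Fintype.ofFinite K
  have := finite_monic (fun f : K[X] => f.coeff 0 ≠ 0 ∧ tilde (starRingEnd K) f = f) (m + 1)
  have := finite_monic (fun f : K[X] => f.coeff 0 = (-1) ^ (m + 1) ∧ tilde (starRingEnd K) f = f)
    (m + 1)
  have h1 := card_tilde_invariant hK m
  rw [hq, ← pow_mul, mul_comm, pow_mul] at h1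
  refine (natCard_le_sum (univ.filter fun c : K => c * star c = 1) (fun f c => f.1.coeff 0 = c)
    (fun f => ⟨_, mem_filter.2 ⟨mem_univ _, ?_⟩, rfl⟩) (fun _ => q ^ m) fun c hc => ?_).trans_eq ?_
  · have h2 := (tilde_eq_self_iff_coeff f.2.2.2.1).1 f.2.2.2.2 0 (Nat.zero_le _)
    rw [Nat.sub_zero, f.2.1.coeff_natDegree, map_one, mul_comm] at h2
    exact h2.symm
  · have h2 := (mem_filter.1 hc).2
    obtain ⟨ψ, h3, h4⟩ := exists_rescale_tilde hK (μ := (-1) ^ (m + 1) * star c) (by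
      rw [star_mul, star_star, star_pow, star_neg, star_one]
      linear_combination ((-1) ^ (m + 1) * (-1) ^ (m + 1)) * h2 +
        (by rw [← mul_pow]; simp : ((-1 : K) ^ (m + 1)) * (-1) ^ (m + 1) = 1))
    rw [← Nat.cast_pow, ← Nat.pow_left_injective two_ne_zero h1, Nat.cast_le]
    refine Nat.card_le_card_of_injective (fun f => ⟨ψ f.1.1, ?_⟩)
      fun f g h => Subtype.ext (Subtype.ext (h3 (by simpa using h)))
    obtain ⟨⟨f, h5, h6, h7⟩, rfl⟩ := f
    obtain ⟨h8, h9, h10, h11⟩ := h4 f h5 h7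
    refine ⟨h8, h10.trans h6, ?_, h9.2⟩
    rw [h11, if_pos (by omega), mul_assoc, mul_comm (star _), h2, mul_one]
  · rw [sum_const, ← Fintype.card_subtype, ← Nat.card_eq_fintype_card, hq', add_mul, one_mul,
      map_add, PowerSeries.coeff_succ_X_mul, coeff_geo, coeff_geo]
    simp [pow_succ', add_mul]

end Unitary

open CfsgLib.Unitary in
theorem card_classes_SU {K : Type*} [Field K] [Fintype K] {q n : ℕ} (hK : Fintype.card K = q ^ 2)
    (hn : 1 ≤ n) : ((q : ℝ) + 1) * Nat.card (ConjClasses (Cfsg.SU n K q)) ≤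
      PowerSeries.coeff n (∏ i ∈ range n, ex i ((1 + PowerSeries.X) * geo q)) +
      ∑ j ∈ Icc 2 n with j ∣ q + 1 ∧ j ∣ n, (j ^ 2 - 1) * PowerSeries.coeff (n / j)
        (∏ i ∈ range (n / j), ex i ((1 + PowerSeries.X) * geo q)) := by
  let _ := unitaryStar hK
  have : Nonempty (Fin n) := ⟨⟨0, hn⟩⟩
  have h0 : ∀ ν : (detGU n K q).range, (ν.1 : K) * star (ν.1 : K) = 1 := fun ν => by
    rw [← (mem_range_detGU hK hn).1 ν.2, pow_succ']; rfl
  have h2 := card_classes_det (suToGU n K q) suToGU_injective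
    ((Units.coeHom _).comp (Cfsg.GU n K q).subtype) (detGU n K q).range
    (detGU n K q).rangeRestrict (detGU n K q).rangeRestrict_surjective (fun _ => rfl)
    (fun g => by
      rw [← MonoidHom.mem_ker, MonoidHom.ker_rangeRestrict, ← range_suToGU]; rfl)
    (isConj_GU_of_isConj hK) (fun g x hx ν => by
      obtain ⟨c, h3, h4, h5⟩ := exists_unitary_commute_det (exists_not_fixed hK)
        ((mem_GU_iff_star hK _).1 g.2) hx (h0 ν)
      obtain ⟨c, rfl⟩ := exists_GU_eq hK h3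
      exact ⟨c, Subtype.ext (Units.ext h4), Subtype.ext (Units.ext h5)⟩)
    (fun _ => True) (fun f => f.coeff 0 ≠ 0 ∧ tilde (starRingEnd K) f = f)
    (fun h _ i => ⟨matD_coeff_zero_ne_zero _ (Units.isUnit _) i,
      matD_tilde _ (edM_tilde_of_unitary ((mem_SU_iff_star hK _).1 h.2)) i⟩)
    (fun μ => exists_rescale_tilde (exists_not_fixed hK) (h0 μ))
    (gfS_tilde_le (exists_not_fixed hK) (q := q) (by rw [Nat.card_eq_fintype_card, hK])
      (by have := card_norm_one hK; simp only [pow_succ'] at this; exact this) _)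
  rwa [← card_conjClasses_eq, card_range_detGU hK hn, Fintype.card_fin, Nat.cast_add,
    Nat.cast_one] at h2

section Center

variable {G : Type*} [Group G]

/-- The centre acts on the conjugacy classes by multiplication. -/
@[reducible] def centerAction : MulAction (Subgroup.center G) (ConjClasses G) where
  smul z := Quotient.map' (z.1 * ·) fun a b h => by
    obtain ⟨c, rfl⟩ := isConj_iff.1 h
    exact isConj_iff.2 ⟨c, by simp only [← mul_assoc, Subgroup.mem_center_iff.1 z.2 c]⟩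
  one_smul C := by
    obtain ⟨g, rfl⟩ := ConjClasses.exists_rep C
    exact congrArg ConjClasses.mk (one_mul g)
  mul_smul z z' C := by
    obtain ⟨g, rfl⟩ := ConjClasses.exists_rep C
    exact congrArg ConjClasses.mk (mul_assoc _ _ g)

theorem card_center_mul_card_classes [Finite G] [Fintype (Subgroup.center G)] :
    Nat.card (Subgroup.center G) * Nat.card (ConjClasses (G ⧸ Subgroup.center G)) =
      ∑ z : Subgroup.center G,
        Nat.card {C : ConjClasses G // ∃ g, ConjClasses.mk g = C ∧ IsConj (z.1 * g) g} := by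
  classical
  let _ := centerAction (G := G)
  have h0 : ∀ (z : Subgroup.center G) (g : G), z • ConjClasses.mk g = ConjClasses.mk (z.1 * g) :=
    fun _ _ => rfl
  have := fun z : Subgroup.center G => Fintype.ofFinite (MulAction.fixedBy (ConjClasses G) z)
  have := Fintype.ofFinite (Quotient (MulAction.orbitRel (Subgroup.center G) (ConjClasses G)))
  have h1 := MulAction.sum_card_fixedBy_eq_card_orbits_mul_card_group (Subgroup.center G)
    (ConjClasses G)
  simp only [← Nat.card_eq_fintype_card] at h1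
  have h2 : ∀ g g' : G, IsConj (g : G ⧸ Subgroup.center G) g' ↔
      ∃ z : Subgroup.center G, IsConj (z.1 * g') g := fun g g' => by
    constructor
    · intro h
      obtain ⟨c, hc⟩ := isConj_iff.1 h
      obtain ⟨c, rfl⟩ := QuotientGroup.mk_surjective c
      have h3 : g'⁻¹ * (c * g * c⁻¹) ∈ Subgroup.center G := QuotientGroup.eq.1 hc.symm
      refine ⟨⟨_, h3⟩, (isConj_iff.2 ⟨c, ?_⟩).symm⟩
      rw [← Subgroup.mem_center_iff.1 h3, mul_inv_cancel_left]
    · rintro ⟨z, h⟩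
      simpa [(QuotientGroup.eq_one_iff _).2 z.2] using
        ((QuotientGroup.mk' (Subgroup.center G)).map_isConj h).symm
  rw [mul_comm, ← Nat.card_congr (Equiv.ofBijective (Quotient.lift (s := MulAction.orbitRel
    (Subgroup.center G) (ConjClasses G)) (ConjClasses.map (QuotientGroup.mk' _)) ?_) ⟨?_, ?_⟩),
    ← h1]
  · refine sum_congr rfl fun z _ => Nat.card_congr (Equiv.subtypeEquivRight fun C => ?_)
    obtain ⟨g, rfl⟩ := ConjClasses.exists_rep C
    refine ⟨fun h => ⟨g, rfl, ConjClasses.mk_eq_mk_iff_isConj.1 h⟩, fun ⟨g', h, h'⟩ => ?_⟩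
    rw [← h]
    exact ConjClasses.mk_eq_mk_iff_isConj.2 h'
  · rintro _ C ⟨z, rfl⟩
    obtain ⟨g, rfl⟩ := ConjClasses.exists_rep C
    exact ConjClasses.mk_eq_mk_iff_isConj.2 ((h2 _ _).2 ⟨z, IsConj.refl _⟩)
  · rintro ⟨⟨g⟩⟩ ⟨⟨g'⟩⟩ h
    obtain ⟨z, hz⟩ := (h2 _ _).1 (ConjClasses.mk_eq_mk_iff_isConj.1 h)
    exact Quotient.sound ⟨z, ConjClasses.mk_eq_mk_iff_isConj.2 hz⟩
  · rintro ⟨⟨g⟩⟩
    exact ⟨Quotient.mk _ (ConjClasses.mk g), rfl⟩

end Center

end CfsgLib.MatConj
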