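import Mathlib

/-!
Coefficientwise bounds for generating functions.
-/

set_option autoImplicit false

namespace CfsgLib.MatConj

open PowerSeries Finset

/-- Coefficientwise comparison of real power series. -/
def CLe (f g : ℝ⟦X⟧) : Prop := ∀ n, coeff n f ≤ coeff n g

/-- Non-negative coefficients. -/
def CPos (f : ℝ⟦X⟧) : Prop := ∀ n, 0 ≤ coeff n f

theorem CLe.refl (f : ℝ⟦X⟧) : CLe f f := fun _ => le_rfl

theorem CLe.trans {f g h : ℝ⟦X⟧} (h1 : CLe f g) (h2 : CLe g h) : CLe f h :=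
  fun n => (h1 n).trans (h2 n)

theorem CPos.of_le {f g : ℝ⟦X⟧} (h1 : CPos f) (h2 : CLe f g) : CPos g :=
  fun n => (h1 n).trans (h2 n)

theorem cPos_one : CPos 1 := fun n => by rw [coeff_one]; split_ifs <;> norm_num

theorem cPos_X_pow (k : ℕ) : CPos (X ^ k) := fun n => by rw [coeff_X_pow]; split_ifs <;> norm_num

theorem cPos_X : CPos X := pow_one (X : ℝ⟦X⟧) ▸ cPos_X_pow 1

theorem CPos.add {f g : ℝ⟦X⟧} (hf : CPos f) (hg : CPos g) : CPos (f + g) :=
  fun n => by rw [map_add]; exact add_nonneg (hf n) (hg n)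

theorem CPos.mul {f g : ℝ⟦X⟧} (hf : CPos f) (hg : CPos g) : CPos (f * g) :=
  fun n => by rw [coeff_mul]; exact sum_nonneg fun _ _ => mul_nonneg (hf _) (hg _)

theorem CPos.prod {ι : Type*} (s : Finset ι) {f : ι → ℝ⟦X⟧} (hf : ∀ i ∈ s, CPos (f i)) :
    CPos (∏ i ∈ s, f i) :=
  prod_induction _ _ (fun _ _ => CPos.mul) cPos_one hf

theorem CPos.pow {f : ℝ⟦X⟧} (hf : CPos f) (k : ℕ) : CPos (f ^ k) := by
  rw [← card_range k, ← prod_const]
  exact CPos.prod _ fun _ _ => hf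

theorem CLe.add {f f' g g' : ℝ⟦X⟧} (h : CLe f f') (h' : CLe g g') : CLe (f + g) (f' + g') :=
  fun n => by rw [map_add, map_add]; exact add_le_add (h n) (h' n)

theorem CLe.mul {f f' g g' : ℝ⟦X⟧} (hf : CPos f) (hg : CPos g) (h : CLe f f') (h' : CLe g g') :
    CLe (f * g) (f' * g') := fun n => by
  rw [coeff_mul, coeff_mul]
  exact sum_le_sum fun _ _ => mul_le_mul (h _) (h' _) (hg _) (hf.of_le h _)

theorem CLe.prod {ι : Type*} (s : Finset ι) {f g : ι → ℝ⟦X⟧} (hf : ∀ i ∈ s, CPos (f i))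
    (h : ∀ i ∈ s, CLe (f i) (g i)) : CLe (∏ i ∈ s, f i) (∏ i ∈ s, g i) := by
  classical
  induction s using Finset.induction_on with
  | empty => exact CLe.refl _
  | insert a s ha ih =>
    rw [prod_insert ha, prod_insert ha]
    exact (h a (mem_insert_self _ _)).mul (hf a (mem_insert_self _ _))
      (CPos.prod _ fun i hi => hf i (mem_insert_of_mem hi))
      (ih (fun i hi => hf i (mem_insert_of_mem hi)) fun i hi => h i (mem_insert_of_mem hi))

theorem CPos.expand {f : ℝ⟦X⟧} (hf : CPos f) (e : ℕ) (he : e ≠ 0) : CPos (expand e he f) :=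
  fun n => by rw [coeff_expand]; split_ifs; exacts [hf _, le_rfl]

theorem CLe.expand {f g : ℝ⟦X⟧} (h : CLe f g) (e : ℕ) (he : e ≠ 0) :
    CLe (expand e he f) (expand e he g) :=
  fun n => by rw [coeff_expand, coeff_expand]; split_ifs; exacts [h _, le_rfl]

/-- The geometric series. -/
noncomputable def geo (a : ℝ) : ℝ⟦X⟧ := mk fun m => a ^ m

theorem coeff_geo (a : ℝ) (m : ℕ) : coeff m (geo a) = a ^ m := coeff_mk _ _

theorem cPos_geo {a : ℝ} (ha : 0 ≤ a) : CPos (geo a) := fun n => by rw [coeff_geo]; positivity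

theorem geo_eq (a : ℝ) : geo a = 1 + C a * (geo a * X) := by
  ext n
  rcases n with _ | n
  · simp [coeff_geo]
  · simp [coeff_geo, coeff_succ_mul_X, pow_succ', coeff_one]

theorem expand_geo_eq (a : ℝ) (e : ℕ) (he : e ≠ 0) :
    expand e he (geo a) = 1 + C a * (expand e he (geo a) * X ^ e) := by
  conv_lhs => rw [geo_eq, map_add, map_one, map_mul, map_mul, expand_C, expand_X]

/-- The coefficients of `f` are bounded by `K * ω`. -/
def Bd (ω : ℕ → ℝ) (K : ℝ) (f : ℝ⟦X⟧) : Prop := ∀ n, coeff n f ≤ K * ω n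

/-- Multiplication by `g` increases the bound by at most the factor `ρ`. -/
def Mult (ω : ℕ → ℝ) (ρ : ℝ) (g : ℝ⟦X⟧) : Prop :=
  0 ≤ ρ ∧ ∀ K f, 0 ≤ K → Bd ω K f → Bd ω (K * ρ) (f * g)

variable {ω : ℕ → ℝ}

theorem mult_one : Mult ω 1 1 := ⟨zero_le_one, fun _ _ _ h => by rwa [mul_one, mul_one]⟩

theorem Mult.mul {ρ ρ' : ℝ} {g g' : ℝ⟦X⟧} (h : Mult ω ρ g) (h' : Mult ω ρ' g') :
    Mult ω (ρ * ρ') (g * g') :=
  ⟨mul_nonneg h.1 h'.1, fun K f hK hf => by
    rw [← mul_assoc, ← mul_assoc]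
    exact h'.2 _ _ (mul_nonneg hK h.1) (h.2 K f hK hf)⟩

theorem Mult.prod {ι : Type*} (s : Finset ι) {ρ : ι → ℝ} {g : ι → ℝ⟦X⟧}
    (h : ∀ i ∈ s, Mult ω (ρ i) (g i)) : Mult ω (∏ i ∈ s, ρ i) (∏ i ∈ s, g i) := by
  classical
  induction s using Finset.induction_on with
  | empty => exact mult_one
  | insert a s ha ih =>
    rw [prod_insert ha, prod_insert ha]
    exact (h a (mem_insert_self _ _)).mul (ih fun i hi => h i (mem_insert_of_mem hi))

theorem Mult.pow {ρ : ℝ} {g : ℝ⟦X⟧} (h : Mult ω ρ g) (k : ℕ) : Mult ω (ρ ^ k) (g ^ k) := by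
  rw [← card_range k, ← prod_const, ← prod_const]
  exact Mult.prod _ fun _ _ => h

theorem Bd.mono (hω : ∀ n, 0 ≤ ω n) {K K' : ℝ} {f : ℝ⟦X⟧} (h : Bd ω K f) (hK : K ≤ K') :
    Bd ω K' f := fun n => (h n).trans (mul_le_mul_of_nonneg_right hK (hω n))

theorem mult_one_add (hω : ∀ n, 0 ≤ ω n) {τ : ℝ} (hτ : 0 ≤ τ) {e : ℕ}
    (h : ∀ n, ω n ≤ τ * ω (n + e)) : Mult ω (1 + τ) (1 + X ^ e) := by
  refine ⟨by positivity, fun K f hK hf n => ?_⟩
  rw [mul_add, mul_one, map_add, coeff_mul_X_pow']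
  have h1 := hf n
  split_ifs with h2
  · have h3 := hf (n - e)
    have h4 := mul_le_mul_of_nonneg_left (h (n - e)) hK
    rw [Nat.sub_add_cancel h2] at h4
    linarith
  · have := mul_nonneg (mul_nonneg hK hτ) (hω n)
    linarith

theorem mult_geo (hω : ∀ n, 0 ≤ ω n) {τ a : ℝ} (hτ : 0 ≤ τ) (ha : 0 ≤ a) {e : ℕ} (he : e ≠ 0)
    (h : ∀ n, a * ω n ≤ τ * ω (n + e)) (h1 : τ < 1) :
    Mult ω (1 - τ)⁻¹ (expand e he (geo a)) := by
  have h0 : 0 < 1 - τ := sub_pos.2 h1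
  refine ⟨by positivity, fun K f hK hf n => ?_⟩
  induction n using Nat.strong_induction_on with
  | _ n ih =>
    rw [expand_geo_eq, mul_add, mul_one, mul_left_comm, ← mul_assoc f, map_add, coeff_C_mul,
      coeff_mul_X_pow']
    have h2 := hf n
    have h3 : K * (1 - τ)⁻¹ * ω n = K * ω n + K * (1 - τ)⁻¹ * (τ * ω n) := by field_simp; ring
    have h4 : 0 ≤ K * (1 - τ)⁻¹ := by positivity
    split_ifs with h5
    · have h6 := mul_le_mul_of_nonneg_left (ih (n - e) (by omega)) ha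
      have h7 := mul_le_mul_of_nonneg_left (h (n - e)) h4
      rw [Nat.sub_add_cancel h5] at h7
      linarith
    · have := mul_nonneg h4 (mul_nonneg hτ (hω n))
      linarith

theorem prod_range_le {ρ b : ℕ → ℝ} {K : ℝ} (k₀ : ℕ) (h1 : ∀ i, 1 ≤ ρ i) (hb : ∀ i, 1 ≤ b i)
    (h0 : (∏ i ∈ range k₀, ρ i) * b k₀ ≤ K) (hs : ∀ i, k₀ ≤ i → ρ i * b (i + 1) ≤ b i) (k : ℕ) :
    ∏ i ∈ range k, ρ i ≤ K := by
  have h2 : ∀ k, 0 ≤ ∏ i ∈ range k, ρ i := fun k => prod_nonneg fun i _ => zero_le_one.trans (h1 i)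
  have h3 : ∀ k, k₀ ≤ k → (∏ i ∈ range k, ρ i) * b k ≤ K := by
    intro k hk
    induction k, hk using Nat.le_induction with
    | base => exact h0
    | succ k hk ih =>
      rw [prod_range_succ, mul_assoc]
      exact (mul_le_mul_of_nonneg_left (hs k hk) (h2 k)).trans ih
  have h4 : ∏ i ∈ range k, ρ i ≤ ∏ i ∈ range (max k k₀), ρ i :=
    prod_le_prod_of_subset_of_one_le (range_subset_range.2 (le_max_left _ _))
      (fun i _ => zero_le_one.trans (h1 i)) fun i _ _ => h1 i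
  exact h4.trans ((le_mul_of_one_le_right (h2 _) (hb _)).trans (h3 _ (le_max_right _ _)))

theorem prod_range_two_mul {M : Type*} [CommMonoid M] (f : ℕ → M) (k : ℕ) :
    ∏ i ∈ range (2 * k), f i = ∏ j ∈ range k, f (2 * j) * f (2 * j + 1) := by
  induction k with
  | zero => simp
  | succ k ih => rw [mul_add, mul_one, prod_range_succ, prod_range_succ, ih, prod_range_succ, mul_assoc]

/-- `ex i f` is `f (X ^ (i + 1))`. -/
noncomputable abbrev ex (i : ℕ) : ℝ⟦X⟧ →ₐ[ℝ] ℝ⟦X⟧ := expand (i + 1) (Nat.succ_ne_zero i)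

theorem expand_comm (a b : ℕ) (ha : a ≠ 0) (hb : b ≠ 0) (f : ℝ⟦X⟧) :
    expand a ha (expand b hb f) = expand b hb (expand a ha f) := by
  rw [← expand_mul, ← expand_mul]
  congr 2
  exact mul_comm _ _

section GenLin

/-- The generating function of monic polynomials with non-zero constant term. -/
noncomputable def hGL (q : ℝ) : ℝ⟦X⟧ := mk fun m => if m = 0 then 1 else q ^ m - q ^ (m - 1)

theorem hGL_eq (q : ℝ) : hGL q = 1 + C (q - 1) * (geo q * X) := by
  ext n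
  rcases n with _ | n
  · simp [hGL]
  · simp [hGL, coeff_geo, coeff_succ_mul_X, pow_succ', coeff_one, sub_mul]

theorem hGL_mul_geo (q : ℝ) : hGL q * geo 1 = geo q := by
  have h1 := geo_eq q
  have h2 := geo_eq 1
  have h3 : (1 - X : ℝ⟦X⟧) ≠ 0 := fun h => by simpa using congrArg constantCoeff h
  rw [map_one] at h2
  refine mul_right_cancel₀ h3 ?_
  rw [hGL_eq, map_sub, map_one]
  linear_combination (1 + (C q - 1) * (geo q * X)) * h2 - h1

variable {q : ℝ} (hq : 1 ≤ q)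
include hq

theorem cPos_hGL : CPos (hGL q) := fun n => by
  rw [hGL, coeff_mk]
  split_ifs
  exacts [zero_le_one, sub_nonneg.2 (pow_le_pow_right₀ hq (Nat.sub_le _ _))]

omit hq in
theorem coeff_prod_hGL_succ (k n : ℕ) : coeff n (∏ i ∈ range (k + 1), ex i (hGL q)) =
    coeff n (∏ i ∈ range k, ex i (hGL q)) + (q - 1) * if k + 1 ≤ n then
      coeff (n - (k + 1)) ((∏ i ∈ range k, ex i (hGL q)) * ex k (geo q)) else 0 := by
  have h : ex k (hGL q) = 1 + C (q - 1) * (ex k (geo q) * X ^ (k + 1)) := by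
    rw [hGL_eq, map_add, map_one, map_mul, map_mul, expand_C, expand_X]
  rw [prod_range_succ, h, mul_add, mul_one, mul_left_comm, ← mul_assoc _ _ (X ^ _), map_add,
    coeff_C_mul, coeff_mul_X_pow']

omit hq in
theorem coeff_mul_ex_geo (f : ℝ⟦X⟧) (k n : ℕ) : coeff n (f * ex k (geo q)) =
    coeff n f + q * if k + 1 ≤ n then coeff (n - (k + 1)) (f * ex k (geo q)) else 0 := by
  conv_lhs => rw [expand_geo_eq, mul_add, mul_one, mul_left_comm, ← mul_assoc f, map_add,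
    coeff_C_mul, coeff_mul_X_pow']

theorem coeff_prod_hGL_le_aux (k n : ℕ) : coeff n (∏ i ∈ range k, ex i (hGL q)) ≤
    if n = 0 then 1 else q ^ n - q ^ (n - k) := by
  have h0 : 0 ≤ q := zero_le_one.trans hq
  induction k generalizing n with
  | zero => rw [prod_range_zero, coeff_one]; split_ifs <;> simp
  | succ k ih =>
    have h1 : ∀ n, coeff n ((∏ i ∈ range k, ex i (hGL q)) * ex k (geo q)) ≤ q ^ n := by
      intro n
      induction n using Nat.strong_induction_on with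
      | _ n ih' =>
        rw [coeff_mul_ex_geo]
        have h2 := ih n
        split_ifs with h3
        · have h4 := mul_le_mul_of_nonneg_left (ih' (n - (k + 1)) (by omega)) h0
          rw [if_neg (by omega), show n - k = n - (k + 1) + 1 by omega, pow_succ] at h2
          linarith
        · split_ifs at h2 with h4
          · rw [h4, pow_zero] at *; linarith
          · have := pow_nonneg h0 (n - k)
            linarith
    rw [coeff_prod_hGL_succ]
    have h2 := ih n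
    by_cases h3 : k + 1 ≤ n
    · have h4 := mul_le_mul_of_nonneg_left (h1 (n - (k + 1))) (sub_nonneg.2 hq)
      rw [if_neg (by omega), show n - k = n - (k + 1) + 1 by omega, pow_succ] at h2
      rw [if_pos h3, if_neg (by omega)]
      linarith
    · rw [if_neg h3, show n - (k + 1) = n - k by omega]
      linarith

theorem coeff_prod_hGL_le (k : ℕ) {n : ℕ} (hn : n ≠ 0) :
    coeff n (∏ i ∈ range k, ex i (hGL q)) ≤ q ^ n - 1 := by
  have := coeff_prod_hGL_le_aux hq k n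
  rw [if_neg hn] at this
  linarith [one_le_pow₀ hq (n := n - k)]

theorem coeff_prod_hGL_le' (k n : ℕ) : coeff n (∏ i ∈ range k, ex i (hGL q)) ≤ q ^ n := by
  rcases eq_or_ne n 0 with rfl | hn
  · simpa using coeff_prod_hGL_le_aux hq k 0
  · linarith [coeff_prod_hGL_le hq k hn]

theorem coeff_prod_hGL_three : coeff 3 (∏ i ∈ range 3, ex i (hGL q)) ≤ q ^ 3 - q := by
  have h1 := coeff_prod_hGL_le_aux hq 1 3
  have h2 := coeff_prod_hGL_le_aux hq 1 1
  have h3 := coeff_prod_hGL_le_aux hq 2 0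
  rw [coeff_prod_hGL_succ, coeff_prod_hGL_succ 1 3, if_pos (by norm_num), if_pos (by norm_num),
    coeff_mul_ex_geo _ 1, coeff_mul_ex_geo _ 2, if_neg (by norm_num), if_neg (by norm_num)]
  simp only [OfNat.ofNat_ne_zero, one_ne_zero, ↓reduceIte, Nat.reduceAdd, Nat.reduceSub] at h1 h2 h3 ⊢
  nlinarith

end GenLin

section Numeric

theorem prod_GU_two (k : ℕ) : ∏ i ∈ range k, (1 + (1 / 2 : ℝ) ^ (i + 2)) * (1 - (1 / 2) ^ (i + 1))⁻¹
    ≤ 826 / 150 := by
  have h0 : ∀ i, (1 / 2 : ℝ) ^ (i + 1) ≤ 1 / 2 := fun i =>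
    pow_le_of_le_one (by norm_num) (by norm_num) (by omega)
  refine prod_range_le (b := fun i => 1 + 2 * (1 / 2) ^ i) 11 (fun i => ?_)
    (fun i => le_add_of_nonneg_right (by positivity)) (by norm_num [prod_range_succ]) (fun i hi => ?_) k
  · have := h0 i
    exact one_le_mul_of_one_le_of_one_le (le_add_of_nonneg_right (by positivity))
      ((one_le_inv₀ (by linarith)).2 (sub_le_self _ (by positivity)))
  · have h1 : (1 / 2 : ℝ) ^ i ≤ (1 / 2) ^ 11 := pow_le_pow_of_le_one (by norm_num) (by norm_num) hi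
    have h2 := h0 i
    have h3 : 0 < (1 / 2 : ℝ) ^ i := by positivity
    rw [mul_right_comm, ← div_eq_mul_inv, div_le_iff₀ (by linarith), pow_add _ i 2, pow_succ _ i]
    generalize (1 / 2 : ℝ) ^ i = t at h1 h3
    nlinarith

theorem prod_GU_three (k : ℕ) :
    ∏ i ∈ range k, (1 + (1 / 3 : ℝ) ^ (i + 2)) * (1 - (1 / 3) ^ (i + 1))⁻¹ ≤ 9 / 4 := by
  have h0 : ∀ i, (1 / 3 : ℝ) ^ (i + 1) ≤ 1 / 3 := fun i =>
    pow_le_of_le_one (by norm_num) (by norm_num) (by omega)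
  refine prod_range_le (b := fun i => 1 + (1 / 3) ^ i) 3 (fun i => ?_)
    (fun i => le_add_of_nonneg_right (by positivity)) (by norm_num [prod_range_succ]) (fun i hi => ?_) k
  · have := h0 i
    exact one_le_mul_of_one_le_of_one_le (le_add_of_nonneg_right (by positivity))
      ((one_le_inv₀ (by linarith)).2 (sub_le_self _ (by positivity)))
  · have h1 : (1 / 3 : ℝ) ^ i ≤ (1 / 3) ^ 3 := pow_le_pow_of_le_one (by norm_num) (by norm_num) hi
    have h2 := h0 i
    have h3 : 0 < (1 / 3 : ℝ) ^ i := by positivity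
    rw [mul_right_comm, ← div_eq_mul_inv, div_le_iff₀ (by linarith), pow_add _ i 2, pow_succ _ i]
    generalize (1 / 3 : ℝ) ^ i = t at h1 h3
    nlinarith

/-- The generating function for the unitary groups. -/
theorem bd_GU {q x : ℝ} (hx : 0 < x) (hx1 : x < 1) (hq : 1 ≤ x * q) (k : ℕ) :
    Bd (q ^ ·) ((1 + x) * ∏ i ∈ range k, (1 + x ^ (i + 2)) * (1 - x ^ (i + 1))⁻¹)
      (∏ i ∈ range (k + 1), ex i ((1 + X) * geo q)) := by
  have h0 : 0 < q := pos_of_mul_pos_left (by linarith : 0 < q * x) hx.le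
  have hω : ∀ n, 0 ≤ q ^ n := fun n => by positivity
  have h1 : ∀ e n, q ^ n ≤ x ^ e * q ^ (n + e) := fun e n => by
    rw [pow_add, mul_left_comm, ← mul_pow]
    exact le_mul_of_one_le_right (hω n) (one_le_pow₀ hq)
  rw [prod_range_succ', mul_comm _ (ex 0 _)]
  refine (Mult.prod _ fun i _ => ?_).2 _ _ (by positivity) ?_
  · rw [map_mul, map_add, map_one, expand_X]
    refine (mult_one_add hω (by positivity) (h1 _)).mul (mult_geo hω (by positivity) h0.le _
      (fun n => ?_) (pow_lt_one₀ hx.le hx1 (by omega)))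
    rw [← pow_succ', show n + (i + 1 + 1) = n + 1 + (i + 1) by ring]
    exact h1 _ _
  · have := (mult_one_add hω hx.le (e := 1) (by simpa using h1 1)).2 1 (geo q) zero_le_one
      fun n => by rw [coeff_geo, one_mul]
    rw [show ex 0 ((1 + X) * geo q) = (1 + X) * geo q from expand_one_apply _]
    simpa [mul_comm] using this

/-- The weight `q ^ (n / 2)`, with constants depending on the parity. -/
noncomputable def wt2 (q α β : ℝ) (n : ℕ) : ℝ := (if Even n then α else β) * q ^ (n / 2)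

section Wt

variable {q α β κ : ℝ} (hq : 3 ≤ q) (hα : 0 ≤ α) (hβ : 0 ≤ β)
include hq hα hβ

theorem wt2_nonneg (n : ℕ) : 0 ≤ wt2 q α β n := by
  have : 0 ≤ q := by linarith
  rw [wt2]
  split_ifs <;> positivity

omit hα hβ in
theorem pow_le_third_pow_mul (n e : ℕ) : q ^ n ≤ (1 / 3) ^ e * q ^ (n + e) := by
  rw [pow_add, mul_left_comm, ← mul_pow]
  exact le_mul_of_one_le_right (by positivity) (one_le_pow₀ (by linarith))

theorem wt2_even (e n : ℕ) : wt2 q α β n ≤ (1 / 3) ^ e * wt2 q α β (n + 2 * e) := by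
  rw [wt2, wt2, Nat.add_mul_div_left _ _ two_pos, mul_left_comm]
  simp only [Nat.even_add, even_two, Even.mul_right, iff_true]
  exact mul_le_mul_of_nonneg_left (pow_le_third_pow_mul hq _ _) (by split_ifs <;> assumption)

theorem wt2_geo (e n : ℕ) : q * wt2 q α β n ≤ (1 / 3) ^ e * wt2 q α β (n + 2 * (e + 1)) := by
  rw [wt2, wt2, Nat.add_mul_div_left _ _ two_pos, mul_left_comm, mul_left_comm (_ ^ _), ← pow_succ',
    show n / 2 + (e + 1) = n / 2 + 1 + e by ring]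
  simp only [Nat.even_add, even_two, Even.mul_right, iff_true]
  exact mul_le_mul_of_nonneg_left (pow_le_third_pow_mul hq _ _) (by split_ifs <;> assumption)

theorem wt2_odd (h1 : α ≤ κ * β) (h2 : β ≤ κ * (3 * α)) (hκ : 0 ≤ κ) (e n : ℕ) :
    wt2 q α β n ≤ κ * (1 / 3) ^ e * wt2 q α β (n + (2 * e + 1)) := by
  have h0 : 0 ≤ q := by linarith
  rw [wt2, wt2]
  rcases Nat.even_or_odd' n with ⟨m, rfl | rfl⟩
  · rw [if_pos (by simp), if_neg (by simp [Nat.even_add]), show 2 * m / 2 = m by omega,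
      show (2 * m + (2 * e + 1)) / 2 = m + e by omega]
    calc _ ≤ κ * β * ((1 / 3) ^ e * q ^ (m + e)) :=
          mul_le_mul h1 (pow_le_third_pow_mul hq _ _) (by positivity) (by positivity)
      _ = _ := by ring
  · rw [if_neg (by simp), if_pos (by simp [Nat.even_add]), show (2 * m + 1) / 2 = m by omega,
      show (2 * m + 1 + (2 * e + 1)) / 2 = m + (e + 1) by omega]
    calc _ ≤ κ * (3 * α) * ((1 / 3) ^ (e + 1) * q ^ (m + (e + 1))) :=
          mul_le_mul h2 (pow_le_third_pow_mul hq _ _) (by positivity) (by positivity)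
      _ = _ := by ring

theorem mult_ex_geo (i : ℕ) : Mult (wt2 q α β) (1 - (1 / 3) ^ (i + 1))⁻¹
    (ex (i + 1) (expand 2 two_ne_zero (geo q))) := by
  rw [← expand_mul]
  refine mult_geo (wt2_nonneg hq hα hβ) (by positivity) (by linarith) _ (fun n => ?_)
    (pow_lt_one₀ (by norm_num) (by norm_num) (by omega))
  rw [mul_comm _ 2]
  exact wt2_geo hq hα hβ _ _

theorem mult_ex_geo_one (i : ℕ) : Mult (wt2 q α β) (1 - (1 / 3) ^ (i + 1))⁻¹
    (ex i (expand 2 two_ne_zero (geo 1))) := by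
  rw [← expand_mul]
  refine mult_geo (wt2_nonneg hq hα hβ) (by positivity) zero_le_one _ (fun n => ?_)
    (pow_lt_one₀ (by norm_num) (by norm_num) (by omega))
  rw [mul_comm _ 2, one_mul]
  exact wt2_even hq hα hβ _ _

theorem mult_ex_even (j : ℕ) : Mult (wt2 q α β) (1 + (1 / 3) ^ (j + 1)) (ex (2 * j + 1) (1 + X)) := by
  rw [map_add, map_one, expand_X]
  exact mult_one_add (wt2_nonneg hq hα hβ) (by positivity) (wt2_even hq hα hβ (j + 1))

theorem mult_ex_odd (h1 : α ≤ κ * β) (h2 : β ≤ κ * (3 * α)) (hκ : 0 ≤ κ) (j : ℕ) :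
    Mult (wt2 q α β) (1 + κ * (1 / 3) ^ j) (ex (2 * j) (1 + X)) := by
  rw [map_add, map_one, expand_X]
  exact mult_one_add (wt2_nonneg hq hα hβ) (by positivity) (wt2_odd hq hα hβ h1 h2 hκ j)

end Wt

theorem prod_third_le {ρ : ℝ → ℝ} {c K : ℝ} (k₀ : ℕ) (hc : 0 ≤ c)
    (h1 : ∀ t, 0 < t → t ≤ 1 → 1 ≤ ρ t)
    (h0 : (∏ i ∈ range k₀, ρ ((1 / 3) ^ i)) * (1 + c * (1 / 3) ^ k₀) ≤ K)
    (hs : ∀ t, 0 < t → t ≤ (1 / 3) ^ k₀ → ρ t * (1 + c * (t * (1 / 3))) ≤ 1 + c * t) (k : ℕ) :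
    ∏ i ∈ range k, ρ ((1 / 3) ^ i) ≤ K :=
  prod_range_le (b := fun i => 1 + c * (1 / 3) ^ i) k₀
    (fun i => h1 _ (by positivity) (pow_le_one₀ (by norm_num) (by norm_num)))
    (fun i => le_add_of_nonneg_right (by positivity)) h0
    (fun i hi => by
      rw [pow_succ]
      exact hs _ (by positivity) (pow_le_pow_of_le_one (by norm_num) (by norm_num) hi)) k

theorem pow_facts {t δ : ℝ} (h0 : 0 < t) (h1 : t ≤ δ) (h2 : δ ≤ 1) (k : ℕ) :
    0 < t ^ (k + 2) ∧ t ^ (k + 2) ≤ δ * t := by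
  refine ⟨by positivity, ?_⟩
  rw [pow_succ]
  exact mul_le_mul_of_nonneg_right
    ((pow_le_of_le_one h0.le (h1.trans h2) (by omega)).trans h1) h0.le

theorem prod_gen_le (a c K : ℝ) (m k₀ : ℕ) (ha : 0 ≤ a) (hc : 0 ≤ c)
    (h0 : (∏ i ∈ range k₀, (1 + a * (1 / 3) ^ i) ^ m *
      ((1 - ((1 / 3) ^ i) ^ 2 / 9)⁻¹ * (1 - ((1 / 3) ^ i) ^ 2 / 27)⁻¹)) *
        (1 + c * (1 / 3) ^ k₀) ≤ K)
    (hs : ∀ t, 0 < t → t ≤ (1 / 3) ^ k₀ → (1 + a * t) ^ m * (1 + c * (t * (1 / 3))) ≤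
      (1 + c * t) * ((1 - t ^ 2 / 9) * (1 - t ^ 2 / 27))) (k : ℕ) :
    ∏ i ∈ range k, (1 + a * (1 / 3) ^ i) ^ m *
      ((1 - (1 / 3) ^ (2 * i + 1 + 1))⁻¹ * (1 - (1 / 3) ^ (2 * (i + 1) + 1))⁻¹) ≤ K := by
  have h1 : ∀ t : ℝ, 0 < t → t ≤ 1 → 0 < 1 - t ^ 2 / 9 ∧ 0 < 1 - t ^ 2 / 27 := fun t h h' => by
    constructor <;> nlinarith
  refine le_of_eq_of_le (prod_congr rfl fun i _ => ?_) (prod_third_le (ρ := fun t =>
    (1 + a * t) ^ m * ((1 - t ^ 2 / 9)⁻¹ * (1 - t ^ 2 / 27)⁻¹)) k₀ hc (fun t h h' => ?_) h0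
    (fun t h h' => ?_) k)
  · congr 4 <;> ring
  · exact one_le_mul_of_one_le_of_one_le (one_le_pow₀ (le_add_of_nonneg_right (by positivity)))
      (one_le_mul_of_one_le_of_one_le
        ((one_le_inv₀ (h1 t h h').1).2 (sub_le_self _ (by positivity)))
        ((one_le_inv₀ (h1 t h h').2).2 (sub_le_self _ (by positivity))))
  · have h2 := h1 t h (h'.trans (pow_le_one₀ (by norm_num) (by norm_num)))
    rw [mul_right_comm, ← mul_inv, ← div_eq_mul_inv, div_le_iff₀ (mul_pos h2.1 h2.2)]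
    exact hs t h h'

/-- `geo q` in the variable `X ^ 2`. -/
noncomputable abbrev geo2 (q : ℝ) : ℝ⟦X⟧ := expand 2 two_ne_zero (geo q)

variable {q : ℝ} (hq : 3 ≤ q)
include hq

theorem bd_geo2 : Bd (wt2 q 1 1) 1 (geo2 q) := fun n => by
  have : 0 ≤ q := by linarith
  rw [coeff_expand, coeff_geo, wt2, ite_self, one_mul, one_mul]
  split_ifs
  exacts [le_rfl, by positivity]

theorem bd_Sp (k : ℕ) : Bd (wt2 q 1 1) (54 / 5) (∏ j ∈ range (k + 1),
    ex (2 * j) (geo2 q) * ex (2 * j + 1) ((1 + X) ^ 4 * geo2 q)) := by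
  have h0 := zero_le_one (α := ℝ)
  have h1 : ∀ j, Mult (wt2 q 1 1) ((1 + (1 / 3) ^ (j + 1)) ^ 4 * (1 - (1 / 3) ^ (2 * j + 1))⁻¹)
      (ex (2 * j + 1) ((1 + X) ^ 4 * geo2 q)) := fun j => by
    rw [map_mul, map_pow]
    exact ((mult_ex_even hq h0 h0 j).pow 4).mul (mult_ex_geo hq h0 h0 (2 * j))
  rw [prod_range_succ', mul_comm _ (_ * _), mul_assoc,
    show ex (2 * 0) (geo2 q) = geo2 q from expand_one_apply _]
  refine (((h1 0).mul (Mult.prod _ fun j _ => (mult_ex_geo hq h0 h0 (2 * j + 1)).mul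
    (h1 (j + 1)))).2 _ _ h0 (bd_geo2 hq)).mono (wt2_nonneg hq h0 h0) ?_
  have := prod_gen_le (1 / 9) 1 (729 / 320) 4 4 (by norm_num) h0 (by norm_num [prod_range_succ])
    (fun t h h' => by
      have h2 := pow_facts h h' (by norm_num)
      obtain ⟨⟨a2, b2⟩, ⟨a3, b3⟩, ⟨a4, b4⟩, a5, b5⟩ := And.intro (h2 0) (And.intro (h2 1)
        (And.intro (h2 2) (h2 3)))
      norm_num at a2 b2 a3 b3 a4 b4 a5 b5 ⊢
      nlinarith) k
  rw [prod_congr rfl (g := fun j => (1 + 1 / 9 * (1 / 3 : ℝ) ^ j) ^ 4 *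
    ((1 - (1 / 3) ^ (2 * j + 1 + 1))⁻¹ * (1 - (1 / 3) ^ (2 * (j + 1) + 1))⁻¹))
    fun j _ => by ring]
  norm_num at this ⊢
  linarith

theorem bd_O_start : Bd (wt2 q (28 / 9) (16 / 3)) 1 ((1 + X) ^ 4 * geo2 q) := by
  intro n
  have h0 : 0 ≤ q := by linarith
  have h1 : ∀ m, q ^ m ≤ 1 / 3 * q ^ (m + 1) := fun m => by
    simpa using pow_le_third_pow_mul hq m 1
  rw [show ((1 + X) ^ 4 * geo2 q : ℝ⟦X⟧) = geo2 q + C 4 * (geo2 q * X ^ 1) + C 6 * (geo2 q * X ^ 2)
    + C 4 * (geo2 q * X ^ 3) + geo2 q * X ^ 4 by simp only [map_ofNat]; ring]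
  simp only [map_add, coeff_C_mul, coeff_mul_X_pow', coeff_expand, coeff_geo, wt2, one_mul]
  match n with
  | 0 => norm_num
  | 1 => norm_num
  | 2 => norm_num; linarith
  | 3 => norm_num; linarith
  | n + 4 =>
    rcases Nat.even_or_odd' n with ⟨m, rfl | rfl⟩
    · rw [if_pos (by omega), if_pos (by omega), if_neg (by omega), if_pos (by omega),
        if_pos (by omega), if_pos (by omega), if_neg (by omega), if_pos (by omega),
        if_pos (by omega), if_pos (Nat.even_iff.2 (by omega)),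
        show (2 * m + 4) / 2 = m + 1 + 1 by omega, show (2 * m + 4 - 2) / 2 = m + 1 by omega,
        show (2 * m + 4 - 4) / 2 = m by omega]
      linarith [h1 m, h1 (m + 1)]
    · rw [if_neg (by omega), if_pos (by omega), if_pos (by omega), if_pos (by omega),
        if_neg (by omega), if_pos (by omega), if_pos (by omega), if_pos (by omega),
        if_neg (by omega), if_neg (by rw [Nat.even_iff]; omega),
        show (2 * m + 1 + 4) / 2 = m + 1 + 1 by omega,
        show (2 * m + 1 + 4 - 1) / 2 = m + 1 + 1 by omega,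
        show (2 * m + 1 + 4 - 3) / 2 = m + 1 by omega]
      linarith [h1 (m + 1)]

theorem bd_O (k : ℕ) : Bd (wt2 q (28 / 9) (16 / 3)) (27 / 5) (∏ j ∈ range (k + 1),
    ex (2 * j) ((1 + X) ^ 4 * geo2 q) * ex (2 * j + 1) (geo2 q)) := by
  have h0 : (0 : ℝ) ≤ 28 / 9 := by norm_num
  have h0' : (0 : ℝ) ≤ 16 / 3 := by norm_num
  have h1 : ∀ j, Mult (wt2 q (28 / 9) (16 / 3))
      ((1 + 7 / 12 * (1 / 3) ^ (j + 1)) ^ 4 * (1 - (1 / 3) ^ (2 * j + 1 + 1))⁻¹)
      (ex (2 * (j + 1)) ((1 + X) ^ 4 * geo2 q)) := fun j => by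
    rw [map_mul, map_pow]
    exact ((mult_ex_odd hq h0 h0' (by norm_num) (by norm_num) (by norm_num) _).pow 4).mul
      (mult_ex_geo hq h0 h0' (2 * j + 1))
  rw [prod_range_succ', mul_comm _ (_ * _), mul_assoc,
    show ex (2 * 0) ((1 + X) ^ 4 * geo2 q) = _ from expand_one_apply _]
  refine (((mult_ex_geo hq h0 h0' 0).mul (Mult.prod _ fun j _ => (h1 j).mul
    (mult_ex_geo hq h0 h0' (2 * (j + 1))))).2 _ _ zero_le_one (bd_O_start hq)).mono
    (wt2_nonneg hq h0 h0') ?_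
  have := prod_gen_le (7 / 36) (3 / 2) (18 / 5) 4 4 (by norm_num) (by norm_num)
    (by norm_num [prod_range_succ]) (fun t h h' => by
      have h2 := pow_facts h h' (by norm_num)
      obtain ⟨⟨a2, b2⟩, ⟨a3, b3⟩, ⟨a4, b4⟩, a5, b5⟩ := And.intro (h2 0) (And.intro (h2 1)
        (And.intro (h2 2) (h2 3)))
      norm_num at a2 b2 a3 b3 a4 b4 a5 b5 ⊢
      nlinarith) k
  rw [prod_congr rfl (g := fun j => (1 + 7 / 36 * (1 / 3 : ℝ) ^ j) ^ 4 *
    ((1 - (1 / 3) ^ (2 * j + 1 + 1))⁻¹ * (1 - (1 / 3) ^ (2 * (j + 1) + 1))⁻¹))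
    fun j _ => by ring]
  norm_num at this ⊢
  linarith

theorem bd_O_zero (k : ℕ) : Bd (wt2 q 1 1) (9 / 5) (∏ j ∈ range (k + 1),
    ex (2 * j) (geo2 q) * ex (2 * j + 1) (geo2 q)) := by
  have h0 := zero_le_one (α := ℝ)
  rw [prod_range_succ', mul_comm _ (_ * _), mul_assoc,
    show ex (2 * 0) (geo2 q) = geo2 q from expand_one_apply _]
  refine (((mult_ex_geo hq h0 h0 0).mul (Mult.prod _ fun j _ =>
    (mult_ex_geo hq h0 h0 (2 * j + 1)).mul (mult_ex_geo hq h0 h0 (2 * (j + 1))))).2 _ _ h0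
    (bd_geo2 hq)).mono (wt2_nonneg hq h0 h0) ?_
  have := prod_gen_le 0 1 (6 / 5) 0 5 le_rfl h0 (by norm_num [prod_range_succ])
    (fun t h h' => by
      have h2 := pow_facts h h' (by norm_num)
      obtain ⟨⟨a2, b2⟩, ⟨a3, b3⟩, ⟨a4, b4⟩, a5, b5⟩ := And.intro (h2 0) (And.intro (h2 1)
        (And.intro (h2 2) (h2 3)))
      norm_num at a2 b2 a3 b3 a4 b4 a5 b5 ⊢
      nlinarith) k
  norm_num at this ⊢
  linarith

theorem bd_Omega (k : ℕ) : Bd (wt2 q (4 / 3) 2) (12 / 5) (∏ j ∈ range (k + 1),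
    ex (2 * j) ((1 + X) ^ 2 * expand 2 two_ne_zero (hGL q)) * ex (2 * j + 1) (geo2 q)) := by
  have h0 : (0 : ℝ) ≤ 4 / 3 := by norm_num
  have h0' : (0 : ℝ) ≤ 2 := by norm_num
  have hq1 : 1 ≤ q := by linarith
  have h1 : Bd (wt2 q (4 / 3) 2) 1
      (expand 2 two_ne_zero (∏ i ∈ range (2 * (k + 1)), ex i (hGL q)) * (1 + X) ^ 2) := by
    intro n
    have h2 := coeff_prod_hGL_le' hq1 (2 * (k + 1))
    generalize ∏ i ∈ range (2 * (k + 1)), ex i (hGL q) = f at h2
    rw [show (expand 2 two_ne_zero f * (1 + X) ^ 2 : ℝ⟦X⟧) = expand 2 two_ne_zero f +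
      C 2 * (expand 2 two_ne_zero f * X ^ 1) + expand 2 two_ne_zero f * X ^ 2 by
        simp only [map_ofNat]; ring]
    simp only [map_add, coeff_C_mul, coeff_mul_X_pow', coeff_expand, wt2, one_mul]
    match n with
    | 0 => have := h2 0; norm_num at this ⊢; linarith
    | 1 => have := h2 0; norm_num at this ⊢; linarith
    | n + 2 =>
      rcases Nat.even_or_odd' n with ⟨m, rfl | rfl⟩
      · rw [if_pos (by omega), if_pos (by omega), if_neg (by omega), if_pos (by omega),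
          if_pos (by omega), if_pos (Nat.even_iff.2 (by omega)),
          show (2 * m + 2) / 2 = m + 1 by omega, show (2 * m + 2 - 2) / 2 = m by omega]
        linarith [h2 m, h2 (m + 1), pow_le_third_pow_mul hq m 1]
      · rw [if_neg (by omega), if_pos (by omega), if_pos (by omega), if_pos (by omega),
          if_neg (by omega), if_neg (by rw [Nat.even_iff]; omega),
          show (2 * m + 1 + 2) / 2 = m + 1 by omega, show (2 * m + 1 + 2 - 1) / 2 = m + 1 by omega]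
        linarith [h2 (m + 1)]
  have h2 : ∏ j ∈ range (k + 1), ex (2 * j) ((1 + X) ^ 2 * expand 2 two_ne_zero (hGL q)) *
      ex (2 * j + 1) (geo2 q) =
      expand 2 two_ne_zero (∏ i ∈ range (2 * (k + 1)), ex i (hGL q)) * (1 + X) ^ 2 *
      (ex 1 (geo2 1) * ∏ j ∈ range k, ex (2 * (j + 1)) (1 + X) ^ 2 *
        ex (2 * (j + 1) + 1) (geo2 1)) := by
    have h3 := prod_range_succ' (fun j => ex (2 * j) (1 + X) ^ 2 * ex (2 * j + 1) (geo2 1)) k
    rw [show ex (2 * 0) (1 + X) = _ from expand_one_apply _] at h3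
    rw [mul_assoc, ← mul_assoc _ (ex 1 _), mul_comm (_ * ex 1 _), ← h3, prod_range_two_mul,
      map_prod, ← prod_mul_distrib]
    refine prod_congr rfl fun j _ => ?_
    rw [geo2, ← hGL_mul_geo q]
    simp only [map_mul, map_pow, expand_comm 2]
    ring
  rw [h2]
  refine (((mult_ex_geo_one hq h0 h0' 1).mul (Mult.prod _ fun j _ =>
    ((mult_ex_odd hq h0 h0' (κ := 2 / 3) (by norm_num) (by norm_num) (by norm_num) (j + 1)).pow 2).mul
      (mult_ex_geo_one hq h0 h0' (2 * (j + 1) + 1)))).2 _ _ zero_le_one h1).mono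
    (wt2_nonneg hq h0 h0') ?_
  have := prod_third_le (ρ := fun t => (1 + 2 / 9 * t) ^ 2 * (1 - t ^ 2 / 81)⁻¹) (c := 1)
    (K := 2) 3 zero_le_one (fun t h h' => one_le_mul_of_one_le_of_one_le
      (one_le_pow₀ (le_add_of_nonneg_right (by positivity)))
      ((one_le_inv₀ (by nlinarith)).2 (sub_le_self _ (by positivity))))
    (by norm_num [prod_range_succ]) (fun t h h' => by
      have h2 := pow_facts h h' (by norm_num)
      rw [mul_right_comm, ← div_eq_mul_inv, div_le_iff₀ (by linarith [h2 0])]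
      linarith [h2 0, h2 1, h2 2]) k
  rw [prod_congr rfl (g := fun j => (1 + 2 / 9 * (1 / 3 : ℝ) ^ j) ^ 2 *
    (1 - ((1 / 3) ^ j) ^ 2 / 81)⁻¹) fun j _ => by congr 3 <;> ring]
  norm_num at this ⊢
  linarith

end Numeric

end CfsgLib.MatConj
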