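import Cfsg.Agent.Lib.MatConj.SemiCount
import Cfsg.Agent.Lib.MatConj.GenFun

/-!
Encoding systems of elementary divisors by families of monic polynomials, and the resulting
generating functions.
-/

set_option autoImplicit false

namespace CfsgLib.MatConj

open Polynomial Module Matrix Finset

section General

theorem natCard_le_sum {α β : Type*} [Finite α] (T : Finset β) (R : α → β → Prop)
    (hR : ∀ a, ∃ b ∈ T, R a b) (w : β → ℝ) (h : ∀ b ∈ T, (Nat.card {a // R a b} : ℝ) ≤ w b) :
    (Nat.card α : ℝ) ≤ ∑ b ∈ T, w b := by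
  choose f hf hf' using hR
  refine le_trans ?_ (sum_le_sum h)
  rw [← Nat.cast_sum, Nat.cast_le, ← sum_coe_sort, ← Nat.card_sigma]
  exact Nat.card_le_card_of_injective (fun a => ⟨⟨f a, hf a⟩, a, hf' a⟩)
    fun a a' h => congrArg (fun x : Σ b : T, {a // R a b} => x.2.1) h

theorem card_classes_le_sum {G β : Type*} [Monoid G] [Finite G] (P : G → Prop) (d : G → β)
    (T : Finset β) (hd : ∀ g, P g → d g ∈ T) (w : β → ℝ) (h : ∀ b ∈ T,
      (Nat.card {C : ConjClasses G // ∃ g, ConjClasses.mk g = C ∧ P g ∧ d g = b} : ℝ) ≤ w b) :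
    (Nat.card {C : ConjClasses G // ∃ g, ConjClasses.mk g = C ∧ P g} : ℝ) ≤ ∑ b ∈ T, w b :=
  natCard_le_sum T (fun C b => ∃ g, ConjClasses.mk g = C.1 ∧ P g ∧ d g = b)
    (fun ⟨_, g, h1, h2⟩ => ⟨_, hd g h2, g, h1, h2, rfl⟩) w fun b hb =>
      le_trans (Nat.cast_le.2 (Nat.card_le_card_of_injective (fun C => ⟨C.1.1, C.2⟩)
        fun _ _ h => Subtype.ext (Subtype.ext (by simpa using h)))) (h b hb)

theorem card_conjClasses_eq {G : Type*} [Monoid G] : Nat.card (ConjClasses G) =
    Nat.card {C : ConjClasses G // ∃ g, ConjClasses.mk g = C ∧ True} :=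
  (Nat.card_congr (Equiv.subtypeUnivEquiv fun C => by
    simpa using ConjClasses.exists_rep C)).symm

theorem card_classes_le_one {G : Type*} [Monoid G] {P : G → Prop}
    (h : ∀ g g', P g → P g' → IsConj g g') :
    Nat.card {C : ConjClasses G // ∃ g, ConjClasses.mk g = C ∧ P g} ≤ 1 := by
  have : Subsingleton {C : ConjClasses G // ∃ g, ConjClasses.mk g = C ∧ P g} :=
    ⟨fun ⟨_, g, rfl, h1⟩ ⟨_, g', rfl, h2⟩ =>
      Subtype.ext (ConjClasses.mk_eq_mk_iff_isConj.2 (h g g' h1 h2))⟩
  exact Finite.card_le_one_iff_subsingleton.2 this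

theorem card_classes_le_conjClasses {G : Type*} [Monoid G] [Finite G] (P : G → Prop) :
    Nat.card {C : ConjClasses G // ∃ g, ConjClasses.mk g = C ∧ P g} ≤ Nat.card (ConjClasses G) :=
  Nat.card_le_card_of_injective _ Subtype.val_injective

end General

variable {F : Type*} [Field F] {n : Type*} [Fintype n] [DecidableEq n]

section Scale

theorem edM_eq_map {A B : Matrix n n F} (τ : F[X] ≃* F[X])
    (h1 : ∀ f, (τ f).natDegree = f.natDegree) (h2 : ∀ f, (τ f).Monic ↔ f.Monic)
    (h : ∀ f, (aeval B (τ f)).rank = (aeval A f).rank) :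
    edM B = (edM A).map fun x => (τ x.1, x.2) := by
  classical
  have hv : Valid ((edM A).map fun x => (τ x.1, x.2)) := by
    intro y hy
    obtain ⟨x, hx, rfl⟩ := Multiset.mem_map.1 hy
    obtain ⟨h3, h4, h5⟩ := edM_valid A x hx
    exact ⟨(MulEquiv.irreducible_iff τ).2 h3, (h2 _).2 h4, h5⟩
  refine (edM_valid B).eq_of_gcdDeg hv fun p hp hm k => ?_
  obtain ⟨p, rfl⟩ := τ.surjective p
  have h3 := gcdDeg_edM_add_rank B (τ (p ^ k))
  have h4 := gcdDeg_edM_add_rank A (p ^ k)
  rw [h, map_pow] at h3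
  rw [show gcdDeg (edM B) (τ p ^ k) = gcdDeg (edM A) (p ^ k) by omega, gcdDeg_pow hv hp hm,
    gcdDeg_pow (edM_valid A) ((MulEquiv.irreducible_iff τ).1 hp) ((h2 _).1 hm), Multiset.map_map]
  simp [h1]

/-- Scaling of the roots as a multiplicative automorphism. -/
noncomputable def scaleEquiv {c : F} (hc : c ≠ 0) : F[X] ≃* F[X] where
  toFun f := f.scaleRoots c
  invFun f := f.scaleRoots c⁻¹
  left_inv f := by simp [← scaleRoots_mul, hc]
  right_inv f := by simp [← scaleRoots_mul, hc]
  map_mul' f g := mul_scaleRoots_of_noZeroDivisors f g c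

theorem aeval_smul_scaleRoots (A : Matrix n n F) (c : F) (f : F[X]) :
    aeval (c • A) (f.scaleRoots c) = c ^ f.natDegree • aeval A f := by
  rw [aeval_def, aeval_def, Algebra.smul_def, scaleRoots_eval₂_mul_of_commute _ _ _
    (Algebra.commutes _ _) fun _ _ => Algebra.commutes _ _, Algebra.smul_def, map_pow]

theorem rank_smul_of_ne_zero (A : Matrix n n F) {c : F} (hc : c ≠ 0) : (c • A).rank = A.rank := by
  rw [smul_eq_diagonal_mul, rank_mul_eq_right_of_isUnit_det _ _ (by simp [hc])]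

theorem edM_smul (A : Matrix n n F) {c : F} (hc : c ≠ 0) :
    edM (c • A) = (edM A).map fun x => (x.1.scaleRoots c, x.2) :=
  edM_eq_map (scaleEquiv hc) (fun f => natDegree_scaleRoots f c) (fun _ => monic_scaleRoots_iff c)
    fun f => (congrArg rank (aeval_smul_scaleRoots A c f)).trans
      (rank_smul_of_ne_zero _ (pow_ne_zero _ hc))

end Scale

/-- The product of the irreducible polynomials occurring with exponent `i + 1`. -/
noncomputable def toData (s : Multiset (F[X] × ℕ)) (i : ℕ) : F[X] :=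
  ((s.filter (·.2 = i + 1)).map Prod.fst).prod

theorem toData_zero (i : ℕ) : toData (0 : Multiset (F[X] × ℕ)) i = 1 := by simp [toData]

theorem toData_cons (x : F[X] × ℕ) (s : Multiset (F[X] × ℕ)) (i : ℕ) :
    toData (x ::ₘ s) i = (if x.2 = i + 1 then x.1 else 1) * toData s i := by
  rw [toData, Multiset.filter_cons]
  split_ifs <;> simp [toData]

theorem toData_monic {s : Multiset (F[X] × ℕ)} (hs : Valid s) (i : ℕ) : (toData s i).Monic :=
  monic_multiset_prod_of_monic _ _ fun x hx => (hs x (Multiset.mem_of_mem_filter hx)).2.1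

theorem toData_map (τ : F[X] →* F[X]) (s : Multiset (F[X] × ℕ)) (i : ℕ) :
    toData (s.map fun x => (τ x.1, x.2)) i = τ (toData s i) := by
  simp [toData, Multiset.filter_map, map_multiset_prod]

open Classical in
theorem count_normalizedFactors_toData {s : Multiset (F[X] × ℕ)} (hs : Valid s) (i : ℕ)
    (p : F[X]) : (UniqueFactorizationMonoid.normalizedFactors (toData s i)).count p =
      s.count (p, i + 1) := by
  rw [toData, UniqueFactorizationMonoid.normalizedFactors_prod_eq, Multiset.map_map,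
    Multiset.map_congr rfl (f := normalize ∘ Prod.fst) (g := Prod.fst) fun x hx =>
      (hs x (Multiset.mem_of_mem_filter hx)).2.1.normalize_eq_self,
    Multiset.count_map, Multiset.filter_filter, Multiset.count_eq_card_filter_eq]
  · congr 2
    ext x
    simp [Prod.ext_iff, eq_comm]
  · intro a ha
    obtain ⟨x, hx, rfl⟩ := Multiset.mem_map.1 ha
    exact (hs x (Multiset.mem_of_mem_filter hx)).1

open Classical in
theorem pow_dvd_toData_iff {s : Multiset (F[X] × ℕ)} (hs : Valid s) (i : ℕ) {p : F[X]}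
    (hp : Irreducible p) (hm : p.Monic) (k : ℕ) : p ^ k ∣ toData s i ↔ k ≤ s.count (p, i + 1) := by
  rw [pow_dvd_iff_le_emultiplicity, UniqueFactorizationMonoid.emultiplicity_eq_count_normalizedFactors
    hp (toData_monic hs i).ne_zero, hm.normalize_eq_self, count_normalizedFactors_toData hs,
    Nat.cast_le]

theorem dvd_toData_iff {s : Multiset (F[X] × ℕ)} (hs : Valid s) (i : ℕ) {p : F[X]}
    (hp : Irreducible p) (hm : p.Monic) : p ∣ toData s i ↔ (p, i + 1) ∈ s := by
  classical
  rw [← pow_one p, pow_dvd_toData_iff hs i hp hm, pow_one, Multiset.one_le_count_iff_mem]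

theorem eq_of_toData {s t : Multiset (F[X] × ℕ)} (hs : Valid s) (ht : Valid t) {K : ℕ}
    (hsK : ∀ x ∈ s, x.2 ≤ K) (htK : ∀ x ∈ t, x.2 ≤ K)
    (h : ∀ i : Fin K, toData s i = toData t i) : s = t := by
  classical
  ext ⟨p, e⟩
  by_cases he : 0 < e ∧ e ≤ K
  · obtain ⟨i, rfl⟩ : ∃ i, e = i + 1 := ⟨e - 1, by omega⟩
    rw [← count_normalizedFactors_toData hs, ← count_normalizedFactors_toData ht, h ⟨i, he.2⟩]
  · rw [Multiset.count_eq_zero.2 fun h => he ⟨(hs _ h).2.2, hsK _ h⟩,
      Multiset.count_eq_zero.2 fun h => he ⟨(ht _ h).2.2, htK _ h⟩]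

theorem prod_toData {s : Multiset (F[X] × ℕ)} (hs : Valid s) {K : ℕ} (hK : ∀ x ∈ s, x.2 ≤ K) :
    ∏ i : Fin K, toData s i ^ (i.1 + 1) = (s.map fun x => x.1 ^ x.2).prod := by
  induction s using Multiset.induction_on with
  | empty => simp [toData_zero]
  | cons x s ih =>
    have h1 := (hs x (Multiset.mem_cons_self _ _)).2.2
    have h2 := hK x (Multiset.mem_cons_self _ _)
    simp only [toData_cons, mul_pow, prod_mul_distrib, Multiset.map_cons, Multiset.prod_cons]
    rw [ih (fun y hy => hs y (Multiset.mem_cons_of_mem hy))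
      fun y hy => hK y (Multiset.mem_cons_of_mem hy),
      prod_eq_single (⟨x.2 - 1, by omega⟩ : Fin K) (fun i _ hi => ?_) (by simp)]
    · simp [Nat.sub_add_cancel h1]
    · rw [if_neg fun h => hi (Fin.ext (by simp [h])), one_pow]

theorem exp_le_card {A : Matrix n n F} {x : F[X] × ℕ} (hx : x ∈ edM A) : x.2 ≤ Fintype.card n := by
  rw [card_eq_sum_edM A]
  refine le_trans ?_ (Multiset.single_le_sum (fun _ _ => Nat.zero_le _) _
    (Multiset.mem_map_of_mem _ hx))
  exact Nat.le_mul_of_pos_left _ (edM_valid A x hx).1.natDegree_pos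

theorem natDegree_toData_pos_iff {s : Multiset (F[X] × ℕ)} (hs : Valid s) (i : ℕ) :
    0 < (toData s i).natDegree ↔ ∃ x ∈ s, x.2 = i + 1 := by
  constructor
  · intro h
    by_contra h1
    rw [toData, Multiset.filter_eq_nil.2 fun x hx h => h1 ⟨x, hx, h⟩] at h
    simp at h
  · rintro ⟨⟨p, _⟩, hx, rfl⟩
    obtain ⟨h1, h2, -⟩ := hs _ hx
    exact h1.natDegree_pos.trans_le (natDegree_le_of_dvd ((dvd_toData_iff hs i h1 h2).2 hx)
      (toData_monic hs i).ne_zero)

/-- The total weight of a family of polynomials. -/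
noncomputable def wtD {K : ℕ} (x : Fin K → F[X]) : ℕ := ∑ i, (i.1 + 1) * (x i).natDegree

/-- The family of polynomials attached to a matrix. -/
noncomputable def matD (K : ℕ) (A : Matrix n n F) : Fin K → F[X] := fun i => toData (edM A) i

theorem matD_monic (K : ℕ) (A : Matrix n n F) (i : Fin K) : (matD K A i).Monic :=
  toData_monic (edM_valid A) i

theorem prod_matD {K : ℕ} (hK : Fintype.card n ≤ K) (A : Matrix n n F) :
    ∏ i : Fin K, matD K A i ^ (i.1 + 1) = A.charpoly := by
  rw [charpoly_eq_prod_edM]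
  exact prod_toData (edM_valid A) fun _ hx => (exp_le_card hx).trans hK

theorem wtD_matD {K : ℕ} (hK : Fintype.card n ≤ K) (A : Matrix n n F) :
    wtD (matD K A) = Fintype.card n := by
  rw [← A.charpoly_natDegree_eq_dim, ← prod_matD hK,
    natDegree_prod_of_monic _ _ fun i _ => (matD_monic K A i).pow _]
  simp only [natDegree_pow, wtD]

theorem natDegree_matD_le {K : ℕ} (hK : Fintype.card n ≤ K) (A : Matrix n n F) (i : Fin K) :
    (matD K A i).natDegree ≤ Fintype.card n := by
  rw [← wtD_matD hK A]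
  exact (Nat.le_mul_of_pos_left _ (Nat.succ_pos _)).trans
    (single_le_sum (f := fun i : Fin K => (i.1 + 1) * (matD K A i).natDegree)
      (fun _ _ => Nat.zero_le _) (mem_univ i))

theorem matD_eq_iff {K : ℕ} (hK : Fintype.card n ≤ K) {A B : Matrix n n F} :
    matD K A = matD K B ↔ IsConj A B := by
  rw [isConj_iff_edM]
  exact ⟨fun h => eq_of_toData (edM_valid A) (edM_valid B) (fun _ hx => (exp_le_card hx).trans hK)
    (fun _ hx => (exp_le_card hx).trans hK) (congrFun h), fun h => funext fun i => congrArg (toData · i) h⟩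

theorem det_eq_prod_matD {K : ℕ} (hK : Fintype.card n ≤ K) (A : Matrix n n F) :
    A.det = (-1) ^ Fintype.card n * ∏ i : Fin K, (matD K A i).coeff 0 ^ (i.1 + 1) := by
  rw [det_eq_of_charpoly, ← prod_matD hK, coeff_zero_prod]
  simp only [coeff_zero_pow]

theorem matD_coeff_zero_ne_zero (K : ℕ) {A : Matrix n n F} (hA : IsUnit A) (i : Fin K) :
    (matD K A i).coeff 0 ≠ 0 := fun h =>
  (isUnit_iff_edM A).1 hA _
    ((dvd_toData_iff (edM_valid A) i irreducible_X monic_X).1 (X_dvd_iff.2 h)) rfl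

theorem matD_tilde {σ : F →+* F} (K : ℕ) {A : Matrix n n F}
    (h : (edM A).map (fun x => (tilde σ x.1, x.2)) = edM A) (i : Fin K) :
    tilde σ (matD K A i) = matD K A i :=
  (toData_map (tildeHom σ) _ _).symm.trans (congrArg (toData · i) h)

theorem matD_smul (K : ℕ) (A : Matrix n n F) {c : F} (hc : c ≠ 0) (i : Fin K) :
    matD K (c • A) i = (matD K A i).scaleRoots c := by
  rw [matD, edM_smul A hc]
  exact toData_map (scaleEquiv hc).toMonoidHom _ _

section GF

/-- The generating function of a weighted finite set of polynomials. -/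
noncomputable def gfS (S : Finset F[X]) (w : F[X] → ℝ) : PowerSeries ℝ :=
  ∑ f ∈ S, PowerSeries.C (w f) * PowerSeries.X ^ f.natDegree

theorem coeff_gfS (S : Finset F[X]) (w : F[X] → ℝ) (m : ℕ) :
    PowerSeries.coeff m (gfS S w) = ∑ f ∈ S with f.natDegree = m, w f := by
  simp only [gfS, map_sum, PowerSeries.coeff_C_mul_X_pow, sum_filter, eq_comm]

theorem cPos_gfS (S : Finset F[X]) {w : F[X] → ℝ} (hw : ∀ f, 0 ≤ w f) : CPos (gfS S w) :=
  fun m => by rw [coeff_gfS]; exact sum_nonneg fun f _ => hw f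

open Classical in
/-- The families with members in the sets `S i` and total weight `N`. -/
noncomputable def famD (K : ℕ) (S : ℕ → Finset F[X]) (N : ℕ) : Finset (Fin K → F[X]) :=
  (Fintype.piFinset fun i : Fin K => S i).filter fun x => wtD x = N

theorem mem_famD {K : ℕ} {S : ℕ → Finset F[X]} {N : ℕ} {x : Fin K → F[X]} :
    x ∈ famD K S N ↔ (∀ i : Fin K, x i ∈ S i) ∧ wtD x = N := by
  simp [famD]

theorem sum_famD (K : ℕ) (S : ℕ → Finset F[X]) (w : ℕ → F[X] → ℝ) (N : ℕ) :
    ∑ x ∈ famD K S N, ∏ i : Fin K, w i (x i) =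
      PowerSeries.coeff N (∏ i ∈ range K, ex i (gfS (S i) (w i))) := by
  classical
  simp only [gfS, map_sum, map_mul, PowerSeries.expand_C, map_pow, PowerSeries.expand_X]
  rw [prod_range, prod_univ_sum, map_sum, famD, sum_filter]
  refine sum_congr rfl fun x _ => ?_
  simp only [← pow_mul]
  rw [prod_mul_distrib, prod_pow_eq_pow_sum, ← map_prod, PowerSeries.coeff_C_mul_X_pow, wtD]
  simp only [eq_comm]

theorem sum_famD_le (K : ℕ) (S : ℕ → Finset F[X]) {w : ℕ → F[X] → ℝ} (hw : ∀ i f, 0 ≤ w i f)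
    {G : ℕ → PowerSeries ℝ} (hG : ∀ i, CLe (gfS (S i) (w i)) (G i)) (N : ℕ) :
    ∑ x ∈ famD K S N, ∏ i : Fin K, w i (x i) ≤
      PowerSeries.coeff N (∏ i ∈ range K, ex i (G i)) := by
  rw [sum_famD]
  exact CLe.prod _ (fun i _ => (cPos_gfS _ (hw i)).expand _ _) (fun i _ => (hG i).expand _ _) N

theorem card_famD_le (K : ℕ) (S : ℕ → Finset F[X])
    {G : ℕ → PowerSeries ℝ} (hG : ∀ i, CLe (gfS (S i) 1) (G i)) (N : ℕ) :
    ((famD K S N).card : ℝ) ≤ PowerSeries.coeff N (∏ i ∈ range K, ex i (G i)) := by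
  simpa using sum_famD_le K S (w := fun _ => 1) (fun _ _ => zero_le_one) hG N

variable [Finite F]

theorem finite_natDegree_le (N : ℕ) : {f : F[X] | f.natDegree ≤ N}.Finite := by
  have : Finite (degreeLT F (N + 1)) := Finite.of_equiv _ (degreeLTEquiv F (N + 1)).symm.toEquiv
  refine (Set.toFinite (degreeLT F (N + 1) : Set F[X])).subset fun f hf => mem_degreeLT.2 ?_
  exact (degree_le_natDegree.trans (Nat.cast_le.2 hf)).trans_lt (Nat.cast_lt.2 (Nat.lt_succ_self N))

open Classical in
/-- Monic polynomials of degree at most `N` with property `P`. -/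
noncomputable def monS (P : F[X] → Prop) (N : ℕ) : Finset F[X] :=
  (finite_natDegree_le N).toFinset.filter fun f => f.Monic ∧ P f

theorem mem_monS {P : F[X] → Prop} {N : ℕ} {f : F[X]} :
    f ∈ monS P N ↔ f.natDegree ≤ N ∧ f.Monic ∧ P f := by
  simp [monS]

theorem finite_monic (P : F[X] → Prop) (m : ℕ) :
    Finite {f : F[X] // f.Monic ∧ f.natDegree = m ∧ P f} :=
  ((finite_natDegree_le m).subset fun _ h => h.2.1.le).to_subtype

theorem coeff_gfS_monS_le (P : F[X] → Prop) (N m : ℕ) :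
    PowerSeries.coeff m (gfS (monS P N) 1) ≤
      Nat.card {f : F[X] // f.Monic ∧ f.natDegree = m ∧ P f} := by
  have := finite_monic P m
  rw [coeff_gfS]
  simp only [Pi.one_apply, sum_const, nsmul_eq_mul, mul_one, Nat.cast_le]
  rw [← Nat.card_eq_finsetCard]
  exact Nat.card_le_card_of_injective (fun f => ⟨f.1, by
    obtain ⟨h1, h2⟩ := mem_filter.1 f.2
    exact ⟨(mem_monS.1 h1).2.1, h2, (mem_monS.1 h1).2.2⟩⟩)
    fun _ _ h => Subtype.ext (Subtype.mk.inj h)

theorem matD_mem_famD {K : ℕ} (hK : Fintype.card n ≤ K) {P : ℕ → F[X] → Prop} {A : Matrix n n F}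
    (h : ∀ i : Fin K, P i (matD K A i)) :
    matD K A ∈ famD K (fun i => monS (P i) (Fintype.card n)) (Fintype.card n) :=
  mem_famD.2 ⟨fun i => mem_monS.2 ⟨natDegree_matD_le hK A i, matD_monic K A i, h i⟩, wtD_matD hK A⟩

theorem card_monic_zero_le (P : F[X] → Prop) :
    Nat.card {f : F[X] // f.Monic ∧ f.natDegree = 0 ∧ P f} ≤ 1 :=
  have := finite_monic P 0
  Finite.card_le_one_iff_subsingleton.2 ⟨fun f g => Subtype.ext
    ((f.2.1.natDegree_eq_zero.1 f.2.2.1).trans (g.2.1.natDegree_eq_zero.1 g.2.2.1).symm)⟩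

theorem gfS_GL_le (N : ℕ) :
    CLe (gfS (monS (fun f : F[X] => f.coeff 0 ≠ 0) N) 1) (hGL (Nat.card F)) := fun m => by
  classical
  refine (coeff_gfS_monS_le _ N m).trans ?_
  rw [hGL, PowerSeries.coeff_mk]
  rcases m with _ | m
  · rw [if_pos rfl]
    exact_mod_cast card_monic_zero_le _
  · have := Fintype.ofFinite F
    rw [card_monic_coeff_zero m (· ≠ 0), Nat.card_eq_fintype_card, Fintype.card_subtype_compl,
      Fintype.card_subtype_eq, ← Nat.card_eq_fintype_card, Nat.cast_mul,
      Nat.cast_sub Nat.card_pos]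
    simp [pow_succ', sub_mul]

end GF

end CfsgLib.MatConj
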