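import Mathlib
import Cfsg.Agent.Lib.Classical.SL2Torus
import Cfsg.Agent.Lib.Symp.Order
import Cfsg.Agent.Lib.Forms.GLFlag

/-!
Homocyclic Sylow subgroups of `GL`, `SL` and `Sp` for large primes.
-/

set_option autoImplicit false

namespace CfsgLib.MatConj

open Matrix Finset CfsgLib.Classical

section Number

variable {q r : ℕ} [hr : Fact r.Prime]

/-- The `r`-adic valuation of `Φ_d(q)`, `d` the order of `q` modulo `r`. -/
noncomputable abbrev cycVal (q r : ℕ) : ℕ :=
  padicValNat r ((Polynomial.cyclotomic (orderOf (q : ZMod r)) ℤ).eval (q : ℤ)).natAbs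

theorem dvd_pow_sub_one_iff (hq : 1 ≤ q) (i : ℕ) : r ∣ q ^ i - 1 ↔ orderOf (q : ZMod r) ∣ i := by
  rw [orderOf_dvd_iff_pow_eq_one, ← ZMod.natCast_eq_zero_iff,
    Nat.cast_sub (Nat.one_le_pow _ _ hq), sub_eq_zero]
  simp

theorem orderOf_dvd_sub_one (hrq : ¬ r ∣ q) : orderOf (q : ZMod r) ∣ r - 1 :=
  ZMod.orderOf_dvd_card_sub_one (mt (ZMod.natCast_eq_zero_iff _ _).1 hrq)

theorem orderOf_lt (hrq : ¬ r ∣ q) : 0 < orderOf (q : ZMod r) ∧ orderOf (q : ZMod r) < r := by
  have h := hr.out.one_lt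
  have h1 := orderOf_dvd_sub_one hrq
  have := Nat.le_of_dvd (by omega) h1
  exact ⟨Nat.pos_of_dvd_of_pos h1 (by omega), by omega⟩

theorem factorization_pow_sub_one (hq : 2 ≤ q) (hrq : ¬ r ∣ q) {i : ℕ} (hi : ¬ r ∣ i) :
    (q ^ i - 1).factorization r = if orderOf (q : ZMod r) ∣ i then cycVal q r else 0 := by
  have h1 : 1 ≤ q := by omega
  split_ifs with h
  swap
  · exact Nat.factorization_eq_zero_of_not_dvd (mt (dvd_pow_sub_one_iff h1 i).1 h)
  have hp : Prime (r : ℤ) := Nat.prime_iff_prime_int.1 hr.out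
  have h0 := (orderOf_lt hrq).1
  have h2 : ∀ j, (r : ℤ) ∣ q ^ j - 1 ↔ orderOf (q : ZMod r) ∣ j := fun j => by
    rw [← dvd_pow_sub_one_iff h1, ← Int.natCast_dvd_natCast, Nat.cast_sub (Nat.one_le_pow _ _ h1),
      Nat.cast_pow, Nat.cast_one]
  obtain ⟨k, rfl⟩ := h
  unfold cycVal
  generalize orderOf (q : ZMod r) = d at *
  have h3 := emultiplicity_pow_sub_pow_of_prime hp (x := q ^ d) (y := 1) ((h2 d).2 dvd_rfl)
    (fun h => hrq (Int.natCast_dvd_natCast.1 (hp.dvd_of_dvd_pow h))) (n := k)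
    (fun h => hi ((Int.natCast_dvd_natCast.1 h).mul_left _))
  have h4 := congrArg (Polynomial.eval (q : ℤ)) (Polynomial.prod_cyclotomic_eq_X_pow_sub_one h0 ℤ)
  rw [← Nat.cons_self_properDivisors h0.ne', prod_cons, Polynomial.eval_mul,
    Polynomial.eval_prod] at h4
  have h5 : ¬ (r : ℤ) ∣ ∏ j ∈ d.properDivisors, (Polynomial.cyclotomic j ℤ).eval (q : ℤ) := by
    rw [hp.dvd_finsetProd_iff]
    rintro ⟨j, hj, h⟩
    have h6 := Polynomial.eval_dvd (x := (q : ℤ)) (Polynomial.cyclotomic.dvd_X_pow_sub_one j ℤ)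
    have h7 := (h2 j).1 (h.trans (by simpa using h6))
    have h8 := Nat.mem_properDivisors.1 hj
    exact absurd (Nat.le_of_dvd (Nat.pos_of_dvd_of_pos h8.1 h0) h7) (not_le.2 h8.2)
  simp only [Polynomial.eval_sub, Polynomial.eval_pow, Polynomial.eval_X, Polynomial.eval_one] at h4
  have h6 : ∀ j, j ≠ 0 → q ^ j - 1 ≠ 0 := fun j hj => by
    have := Nat.one_lt_pow hj (show 1 < q by omega)
    omega
  have h7 : ((Polynomial.cyclotomic d ℤ).eval (q : ℤ)).natAbs ≠ 0 := by
    refine Int.natAbs_ne_zero.2 fun h => h6 d h0.ne' ?_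
    rw [h, zero_mul] at h4
    zify [Nat.one_le_pow _ _ h1]
    exact h4.symm
  rw [← h4, emultiplicity_mul hp, emultiplicity_eq_zero.2 h5, add_zero, one_pow, ← pow_mul,
    ← Int.emultiplicity_natAbs, ← Int.emultiplicity_natAbs, ← padicValNat_eq_emultiplicity h7] at h3
  rw [Nat.factorization_def _ hr.out, ← Nat.cast_inj (R := ℕ∞), ← h3,
    padicValNat_eq_emultiplicity (h6 _ fun h => hi (by simp [h]))]
  congr 1
  zify [Nat.one_le_pow _ _ h1]
  exact (abs_of_nonneg (sub_nonneg.2 (one_le_pow₀ (by exact_mod_cast h1)))).symm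

theorem factorization_pow_mul_prod (hq : 2 ≤ q) (hrq : ¬ r ∣ q) (a : ℕ) (s : Finset ℕ)
    (f : ℕ → ℕ) (hf : ∀ i ∈ s, ¬ r ∣ f i) :
    (q ^ a * ∏ i ∈ s, (q ^ f i - 1)).factorization r =
      #{i ∈ s | orderOf (q : ZMod r) ∣ f i} * cycVal q r := by
  have h1 : ∀ i ∈ s, q ^ f i - 1 ≠ 0 := fun i hi => by
    have := Nat.one_lt_pow (n := f i) (fun h => hf i hi (by simp [h])) (show 1 < q by omega)
    omega
  rw [Nat.factorization_mul (by positivity) (prod_ne_zero_iff.2 h1), Nat.factorization_prod h1,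
    Finsupp.add_apply, Nat.factorization_eq_zero_of_not_dvd (mt hr.out.dvd_of_dvd_pow hrq),
    zero_add, Finsupp.finsetSum_apply,
    sum_congr rfl fun i hi => factorization_pow_sub_one hq hrq (hf i hi), ← sum_filter,
    sum_const, smul_eq_mul]

end Number

section Group

theorem nonempty_sylow_equiv {G A : Type*} [Group G] [Finite G] [Group A] {r : ℕ} [Fact r.Prime]
    (f : A →* G) (hf : Function.Injective f)
    (h : Nat.card A = r ^ (Nat.card G).factorization r) (P : Sylow r G) :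
    Nonempty ((P : Subgroup G) ≃* A) :=
  ⟨(P.equiv (Sylow.ofCard f.range
    ((Nat.card_congr (MonoidHom.ofInjective hf).toEquiv).symm.trans h))).trans
    (MonoidHom.ofInjective hf).symm⟩

theorem card_pi_zmod (a m : ℕ) : Nat.card (Fin a → Multiplicative (ZMod m)) = m ^ a := by
  rw [Nat.card_fun, Nat.card_congr Multiplicative.toAdd, Nat.card_zmod, Nat.card_fin]

theorem exists_inj_zmod {G : Type*} [Group G] [Finite G] {m : ℕ} (g : G) (hg : m ∣ orderOf g) :
    ∃ f : Multiplicative (ZMod m) →* G, Function.Injective f := by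
  rw [← orderOf_pow_orderOf_div (orderOf_pos g).ne' hg, ← Nat.card_zpowers]
  exact ⟨(Subgroup.subtype _).comp (zmodCyclicMulEquiv inferInstance).toMonoidHom,
    Subtype.val_injective.comp (zmodCyclicMulEquiv inferInstance).injective⟩

theorem exists_inj_pi {G : ℕ → Type*} [∀ n, Group (G n)]
    (hG : ∀ a b, ∃ φ : G a × G b →* G (a + b), Function.Injective φ) {C : Type*} [Group C]
    {d : ℕ} (f : C →* G d) (hf : Function.Injective f) (a n : ℕ) (h : a * d ≤ n) :
    ∃ φ : (Fin a → C) →* G n, Function.Injective φ := by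
  induction a generalizing n with
  | zero => exact ⟨1, Function.injective_of_subsingleton _⟩
  | succ a ih =>
    obtain ⟨m, rfl⟩ : ∃ m, n = d + m := ⟨n - d, by rw [add_mul] at h; omega⟩
    obtain ⟨φ, hφ⟩ := hG d m
    obtain ⟨ψ, hψ⟩ := ih m (by rw [add_mul] at h; omega)
    refine ⟨φ.comp ((f.comp (Pi.evalMonoidHom _ 0)).prod
      (ψ.comp (MonoidHom.pi fun i => Pi.evalMonoidHom _ i.succ))), fun x y hxy => ?_⟩
    have h1 := Prod.ext_iff.1 (hφ hxy)
    exact funext (Fin.cases (hf h1.1) (congrFun (hψ h1.2)))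

end Group

section Block

variable {F : Type*} [Field F] {ι κ μ : Type*} [Fintype ι] [DecidableEq ι] [Fintype κ]
  [DecidableEq κ] [Fintype μ] [DecidableEq μ]

/-- The block sum of two matrices. -/
def blockHom (e : μ ≃ ι ⊕ κ) : Matrix ι ι F × Matrix κ κ F →* Matrix μ μ F where
  toFun x := (fromBlocks x.1 0 0 x.2).submatrix e e
  map_one' := by simp
  map_mul' x y := by simp [fromBlocks_multiply]

theorem blockHom_apply (e : μ ≃ ι ⊕ κ) (A : Matrix ι ι F) (B : Matrix κ κ F) :
    blockHom e (A, B) = (fromBlocks A 0 0 B).submatrix e e := rfl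

theorem blockHom_transpose (e : μ ≃ ι ⊕ κ) (x : Matrix ι ι F × Matrix κ κ F) :
    (blockHom e x)ᵀ = blockHom e (x.1ᵀ, x.2ᵀ) := by
  simp [blockHom, fromBlocks_transpose]

theorem blockHom_injective (e : μ ≃ ι ⊕ κ) : Function.Injective (blockHom (F := F) e) := by
  intro x y h
  have h1 := fromBlocks_inj.1 ((reindex e.symm e.symm).injective h)
  exact Prod.ext h1.1 h1.2.2.2

theorem exists_inj_GL_prod (a b : ℕ) :
    ∃ φ : GL (Fin a) F × GL (Fin b) F →* GL (Fin (a + b)) F, Function.Injective φ :=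
  ⟨((blockHom finSumFinEquiv.symm).comp ((Units.coeHom _).prodMap (Units.coeHom _))).toHomUnits,
    fun _ _ h => Units.val_injective.prodMap Units.val_injective
      (blockHom_injective finSumFinEquiv.symm (by exact congrArg Units.val h))⟩

theorem J_eq_blockHom (e : μ ≃ ι ⊕ κ) :
    J μ F = blockHom ((e.sumCongr e).trans (Equiv.sumSumSumComm ι κ ι κ)) (J ι F, J κ F) := by
  ext (i | i) (j | j) <;> obtain ⟨i, rfl⟩ := e.symm.surjective i <;>
    obtain ⟨j, rfl⟩ := e.symm.surjective j <;> rcases i with i | i <;> rcases j with j | j <;>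
    simp [J, blockHom_apply, one_apply]

theorem exists_inj_Sp_prod (a b : ℕ) : ∃ φ : symplecticGroup (Fin a) F × symplecticGroup (Fin b) F →*
    symplecticGroup (Fin (a + b)) F, Function.Injective φ := by
  refine ⟨((blockHom ((finSumFinEquiv.symm.sumCongr finSumFinEquiv.symm).trans
    (Equiv.sumSumSumComm _ _ _ _))).comp ((Submonoid.subtype _).prodMap
    (Submonoid.subtype _))).codRestrict _ fun x => ?_, fun _ _ h =>
    Subtype.val_injective.prodMap Subtype.val_injective
      (blockHom_injective ((finSumFinEquiv.symm.sumCongr finSumFinEquiv.symm).trans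
        (Equiv.sumSumSumComm _ _ _ _)) (by exact congrArg Subtype.val h))⟩
  rw [SymplecticGroup.mem_iff, J_eq_blockHom finSumFinEquiv.symm, MonoidHom.comp_apply,
    blockHom_transpose, ← map_mul, ← map_mul]
  exact congrArg _ (Prod.ext (SymplecticGroup.mem_iff.1 x.1.2) (SymplecticGroup.mem_iff.1 x.2.2))

end Block

section Sylow

variable {F : Type*} [Field F] [Fintype F] {r : ℕ} [hr : Fact r.Prime] (hrq : ¬ r ∣ Fintype.card F)
include hrq

theorem exists_inj_cyc_GL : ∃ f : Multiplicative (ZMod (r ^ cycVal (Fintype.card F) r)) →*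
    GL (Fin (orderOf (Fintype.card F : ZMod r))) F, Function.Injective f := by
  obtain ⟨h1, h2⟩ := orderOf_lt hrq
  obtain ⟨g, hg, -⟩ := gl_exists_singer (F := F) _ h1.ne'
  have h3 := factorization_pow_sub_one Fintype.one_lt_card hrq (Nat.not_dvd_of_pos_of_lt h1 h2)
  rw [if_pos dvd_rfl] at h3
  exact exists_inj_zmod g (by rw [hg, ← h3]; exact Nat.ordProj_dvd _ _)

theorem exists_inj_pi_GL (n : ℕ) : ∃ f : (Fin (n / orderOf (Fintype.card F : ZMod r)) →
    Multiplicative (ZMod (r ^ cycVal (Fintype.card F) r))) →* GL (Fin n) F, Function.Injective f :=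
  have ⟨f, hf⟩ := exists_inj_cyc_GL hrq
  exists_inj_pi (G := fun n => GL (Fin n) F) exists_inj_GL_prod f hf _ _ (Nat.div_mul_le_self _ _)

theorem sylow_GL {n : ℕ} (hn : n < r) (P : Sylow r (GL (Fin n) F)) :
    Nonempty ((P : Subgroup (GL (Fin n) F)) ≃* (Fin (n / orderOf (Fintype.card F : ZMod r)) →
      Multiplicative (ZMod (r ^ cycVal (Fintype.card F) r)))) := by
  obtain ⟨f, hf⟩ := exists_inj_pi_GL hrq n
  refine nonempty_sylow_equiv f hf ?_ P
  rw [card_pi_zmod, gl_card, factorization_pow_mul_prod Fintype.one_lt_card hrq _ _ (· + 1)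
    fun i hi => Nat.not_dvd_of_pos_of_lt i.succ_pos (by have := mem_range.1 hi; omega),
    Nat.card_multiples, ← pow_mul']

theorem sylow_SL {n : ℕ} (hn : n < r) (P : Sylow r (SpecialLinearGroup (Fin n) F)) :
    Nonempty ((P : Subgroup (SpecialLinearGroup (Fin n) F)) ≃*
      (Fin #{i ∈ Icc 2 n | orderOf (Fintype.card F : ZMod r) ∣ i} →
      Multiplicative (ZMod (r ^ cycVal (Fintype.card F) r)))) := by
  have hq := Fintype.one_lt_card (α := F)
  suffices h : ∃ f : (Fin #{i ∈ Icc 2 n | orderOf (Fintype.card F : ZMod r) ∣ i} →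
      Multiplicative (ZMod (r ^ cycVal (Fintype.card F) r))) →* SpecialLinearGroup (Fin n) F,
      Function.Injective f by
    obtain ⟨f, hf⟩ := h
    refine nonempty_sylow_equiv f hf ?_ P
    rw [card_pi_zmod, sl_card, factorization_pow_mul_prod hq hrq _ _ (· + 2)
      fun i hi => Nat.not_dvd_of_pos_of_lt (by omega) (by have := mem_range.1 hi; omega),
      ← pow_mul']
    congr 2
    exact (card_bij (fun i _ => i + 2) (fun i hi => by
      simp only [mem_filter, mem_range, mem_Icc] at hi ⊢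
      exact ⟨by omega, hi.2⟩) (fun _ _ _ _ h => by omega) fun i hi => by
        simp only [mem_filter, mem_range, mem_Icc] at hi ⊢
        obtain ⟨j, rfl⟩ : ∃ j, i = j + 2 := ⟨i - 2, by omega⟩
        exact ⟨j, ⟨by omega, hi.2⟩, rfl⟩).symm
  by_cases hd : orderOf (Fintype.card F : ZMod r) = 1
  · rw [hd, filter_true_of_mem fun _ _ => one_dvd _, Nat.card_Icc, show n + 1 - 2 = n - 1 by omega]
    rcases n with _ | n
    · exact ⟨1, fun _ _ _ => funext fun i => i.elim0⟩
    rw [Nat.add_sub_cancel]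
    obtain ⟨g, hg⟩ := IsCyclic.exists_ofOrder_eq_natCard (α := Fˣ)
    have h3 := factorization_pow_sub_one hq hrq (i := 1) (Nat.not_dvd_of_pos_of_lt one_pos hr.out.one_lt)
    rw [if_pos (hd ▸ dvd_rfl), pow_one] at h3
    obtain ⟨f, hf⟩ := exists_inj_zmod (m := r ^ cycVal (Fintype.card F) r) g
      (by rw [hg, sl_card_units, ← h3]; exact Nat.ordProj_dvd _ _)
    refine ⟨MonoidHom.mk' (fun x => ⟨diagonal (Fin.cons (f (∏ i, x i)⁻¹) fun i => f (x i)), ?_⟩)
      fun x y => Subtype.ext ?_, fun x y h => funext fun i => hf (Units.ext ?_)⟩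
    · rw [det_diagonal, Fin.prod_univ_succ, Fin.cons_zero]
      simp only [Fin.cons_succ, ← Units.coe_prod, ← map_prod, ← Units.val_mul, ← map_mul,
        inv_mul_cancel, map_one, Units.val_one]
    · refine Eq.trans (congrArg diagonal ?_) (diagonal_mul_diagonal _ _).symm
      refine funext (Fin.cases ?_ fun i => ?_) <;> simp [prod_mul_distrib, mul_comm]
    · exact congrFun (diagonal_injective (congrArg Subtype.val h :)) i.succ
  · obtain ⟨f, hf⟩ := exists_inj_pi_GL hrq n
    rw [show #{i ∈ Icc 2 n | orderOf (Fintype.card F : ZMod r) ∣ i} =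
        n / orderOf (Fintype.card F : ZMod r) by
      rw [← Nat.Ioc_filter_dvd_card_eq_div]
      congr 1
      ext i
      simp only [mem_filter, mem_Icc, mem_Ioc]
      refine and_congr_left fun h => ⟨fun _ => by omega, fun h' => ⟨?_, h'.2⟩⟩
      by_contra h1
      exact hd (Nat.dvd_one.1 (by rwa [show i = 1 by omega] at h))]
    refine ⟨MonoidHom.mk' (fun x => ⟨(f x).1, ?_⟩) (fun x y => Subtype.ext (congrArg Units.val (map_mul f x y))),
      fun x y h => hf (Units.ext (congrArg Subtype.val h))⟩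
    have h1 : (r ^ (cycVal (Fintype.card F) r * (n / orderOf (Fintype.card F : ZMod r)))).Coprime
        (Fintype.card F - 1) := Nat.Coprime.pow_left _ (hr.out.coprime_iff_not_dvd.2 fun h =>
      hd (Nat.dvd_one.1 ((dvd_pow_sub_one_iff hq.le 1).1 (by rwa [pow_one]))))
    have h2 := orderOf_eq_one_iff.1 (Nat.eq_one_of_dvd_coprimes h1
      (((orderOf_map_dvd (GeneralLinearGroup.det.comp f) x).trans (orderOf_dvd_natCard x)).trans
        (by rw [card_pi_zmod, pow_mul])) (sl_card_units (F := F) ▸ orderOf_dvd_natCard _))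
    exact congrArg Units.val h2

theorem factorization_card_sp (hr2 : r ≠ 2) {n : ℕ} (hn : n < r) :
    (Nat.card (symplecticGroup (Fin n) F)).factorization r =
      #{i ∈ range n | orderOf (Fintype.card F : ZMod r) ∣ 2 * (i + 1)} *
        cycVal (Fintype.card F) r := by
  rw [Symp.card_sp, factorization_pow_mul_prod Fintype.one_lt_card hrq _ _ (fun i => 2 * (i + 1))
    fun i hi h => (hr.out.dvd_mul.1 h).elim
      (fun h => hr2 ((Nat.prime_dvd_prime_iff_eq hr.out Nat.prime_two).1 h))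
      (Nat.not_dvd_of_pos_of_lt i.succ_pos (by have := mem_range.1 hi; omega))]

theorem sylow_Sp (hr2 : r ≠ 2) {n : ℕ} (hn : n < r) (P : Sylow r (symplecticGroup (Fin n) F)) :
    Nonempty ((P : Subgroup (symplecticGroup (Fin n) F)) ≃*
      (Fin #{i ∈ Icc 1 n | orderOf (Fintype.card F : ZMod r) ∣ 2 * i} →
      Multiplicative (ZMod (r ^ cycVal (Fintype.card F) r)))) := by
  rw [show #{i ∈ Icc 1 n | orderOf (Fintype.card F : ZMod r) ∣ 2 * i} =
      #{i ∈ range n | orderOf (Fintype.card F : ZMod r) ∣ 2 * (i + 1)} from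
    (card_bij (fun i _ => i + 1) (fun i hi => by
      simp only [mem_filter, mem_range, mem_Icc] at hi ⊢
      exact ⟨by omega, hi.2⟩) (fun _ _ _ _ h => by omega) fun i hi => by
        simp only [mem_filter, mem_range, mem_Icc] at hi ⊢
        obtain ⟨j, rfl⟩ : ∃ j, i = j + 1 := ⟨i - 1, by omega⟩
        exact ⟨j, ⟨by omega, hi.2⟩, rfl⟩).symm]
  suffices h : ∃ f : (Fin #{i ∈ range n | orderOf (Fintype.card F : ZMod r) ∣ 2 * (i + 1)} →
      Multiplicative (ZMod (r ^ cycVal (Fintype.card F) r))) →* symplecticGroup (Fin n) F,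
      Function.Injective f by
    obtain ⟨f, hf⟩ := h
    refine nonempty_sylow_equiv f hf ?_ P
    rw [card_pi_zmod, factorization_card_sp hrq hr2 hn, ← pow_mul']
  obtain ⟨h1, h2⟩ := orderOf_lt hrq
  rcases Nat.even_or_odd (orderOf (Fintype.card F : ZMod r)) with ⟨c, hc⟩ | hd
  · rw [← two_mul] at hc
    have h3 : ∀ n, #{i ∈ range n | orderOf (Fintype.card F : ZMod r) ∣ 2 * (i + 1)} = n / c :=
      fun n => by simp only [hc, Nat.mul_dvd_mul_iff_left two_pos, Nat.card_multiples]
    obtain ⟨Q⟩ : Nonempty (Sylow r (symplecticGroup (Fin c) F)) := inferInstance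
    let ι : symplecticGroup (Fin c) F →* GL (Fin (orderOf (Fintype.card F : ZMod r))) F :=
      (glReindex (finSumFinEquiv.trans (finCongr (by omega)))).toMonoidHom.comp
        (Submonoid.subtype _).toHomUnits
    have hι : Function.Injective ι := fun _ _ h =>
      Subtype.ext (congrArg Units.val ((glReindex _).injective h) :)
    obtain ⟨R, hR⟩ := (Q.isPGroup'.map ι).exists_le_sylow
    obtain ⟨e⟩ := sylow_GL hrq h2 R
    rw [Nat.div_self h1] at e
    have h4 : IsCyclic R := (e.trans (MulEquiv.funUnique _ _)).isCyclic.2 inferInstance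
    have h5 : IsCyclic Q := (Subgroup.equivMapOfInjective _ ι hι).isCyclic.2
      (Subgroup.isCyclic_of_le hR)
    obtain ⟨g, hg⟩ := IsCyclic.exists_ofOrder_eq_natCard (α := Q)
    obtain ⟨f, hf⟩ := exists_inj_zmod (m := r ^ cycVal (Fintype.card F) r) g.1 (by
      rw [Subgroup.orderOf_coe, hg, Sylow.card_eq_multiplicity,
        factorization_card_sp hrq hr2 (by omega), h3, Nat.div_self (by omega), one_mul])
    rw [h3]
    exact exists_inj_pi (G := fun n => symplecticGroup (Fin n) F) exists_inj_Sp_prod f hf _ _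
      (Nat.div_mul_le_self _ _)
  · obtain ⟨f, hf⟩ := exists_inj_pi_GL hrq n
    rw [filter_congr fun i _ => (Nat.coprime_two_right.2 hd).dvd_mul_left, Nat.card_multiples]
    exact ⟨(Forms.spLevi _ _).comp f, Forms.spLevi_injective.comp hf⟩

end Sylow

end CfsgLib.MatConj
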